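import Mathlib.LinearAlgebra.PiTensorProduct.Basis
import Mathlib.LinearAlgebra.Basis.VectorSpace
import Mathlib.LinearAlgebra.Dual.Lemmas
import Mathlib.Algebra.MvPolynomial.Funext
import Mathlib.LinearAlgebra.Multilinear.Basic

/-!
# Symmetric tensors over an infinite field are spanned by pure powers
-/

set_option autoImplicit false
universe u v w

open scoped TensorProduct

namespace K774.SymTensor

/-- The exponent of the monomial attached to a word. -/
noncomputable def mon {I : Type v} {m : ℕ} (f : Fin m → I) : I →₀ ℕ := ∑ a, Finsupp.single (f a) 1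

theorem mon_apply {I : Type v} [DecidableEq I] {m : ℕ} (f : Fin m → I) (i : I) :
    mon f i = Fintype.card {a // f a = i} := by
  unfold mon
  rw [Finsupp.finsetSum_apply, Fintype.card_subtype, Finset.card_filter]
  refine Finset.sum_congr rfl fun a _ => ?_
  rw [Finsupp.single_apply]

theorem exists_perm_of_mon_eq {I : Type v} {m : ℕ} {f g : Fin m → I} (h : mon f = mon g) :
    ∃ σ : Equiv.Perm (Fin m), g ∘ σ = f := by
  classical
  have h1 : ∀ i, Nonempty ({a // f a = i} ≃ {b // g b = i}) := fun i => by
    have := DFunLike.congr_fun h i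
    rw [mon_apply, mon_apply] at this
    exact ⟨Fintype.equivOfCardEq this⟩
  refine ⟨Equiv.ofFiberEquiv (fun i => (h1 i).some), ?_⟩
  ext a
  exact Equiv.ofFiberEquiv_map _ a

variable {k : Type u} [Field k] {V : Type v} [AddCommGroup V] [Module k V] {m : ℕ}

theorem repr_reindex {I : Type w} (e : Module.Basis I k V) (σ : Equiv.Perm (Fin m)) (x : ⨂[k] _ : Fin m, V) (f : Fin m → I) :
    (Basis.piTensorProduct (fun _ => e)).repr (PiTensorProduct.reindex k (fun _ : Fin m => V) σ x) f =
      (Basis.piTensorProduct (fun _ => e)).repr x (f ∘ σ) := by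
  have key : (Finsupp.lapply f : ((Fin m → I) →₀ k) →ₗ[k] k) ∘ₗ
      (Basis.piTensorProduct (fun _ : Fin m => e)).repr.toLinearMap ∘ₗ
        (PiTensorProduct.reindex k (fun _ : Fin m => V) σ).toLinearMap =
      (Finsupp.lapply (f ∘ σ) : ((Fin m → I) →₀ k) →ₗ[k] k) ∘ₗ (Basis.piTensorProduct (fun _ : Fin m => e)).repr.toLinearMap := by
    apply PiTensorProduct.ext
    ext v
    simp only [LinearMap.compMultilinearMap_apply, LinearMap.comp_apply, LinearEquiv.coe_coe, PiTensorProduct.reindex_tprod,
      Finsupp.lapply_apply]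
    rw [Basis.piTensorProduct_repr_tprod_apply, Basis.piTensorProduct_repr_tprod_apply]
    rw [← Equiv.prod_comp σ]
    refine Finset.prod_congr rfl fun i _ => ?_
    have h : σ.symm (σ i) = i := σ.symm_apply_apply i
    rw [h]
    rfl
  exact LinearMap.congr_fun key x

theorem mem_span [Infinite k] (x : ⨂[k] _ : Fin m, V)
    (hx : ∀ σ : Equiv.Perm (Fin m), PiTensorProduct.reindex k (fun _ : Fin m => V) σ x = x) :
    x ∈ Submodule.span k (Set.range fun v : V => PiTensorProduct.tprod k (fun _ : Fin m => v)) := by
  classical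
  by_contra hxn
  obtain ⟨L, hL2, hL1⟩ := Submodule.exists_le_ker_of_notMem hxn
  let e := Module.Basis.ofVectorSpace k V
  let I := Module.Basis.ofVectorSpaceIndex k V
  let B := Basis.piTensorProduct (fun _ : Fin m => e)
  -- the finite set of all the indices that occur
  let J : Finset I := (B.repr x).support.biUnion (fun f => Finset.univ.image f)
  let F : Finset (Fin m → I) := Fintype.piFinset (fun _ => J)
  have hsub : (B.repr x).support ⊆ F := by
    intro f hf
    rw [Fintype.mem_piFinset]
    intro a
    exact Finset.mem_biUnion.2 ⟨f, hf, Finset.mem_image_of_mem f (Finset.mem_univ a)⟩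
  let l : (Fin m → I) → k := fun f => L (B f)
  have hLx : L x = ∑ f ∈ F, B.repr x f * l f := by
    conv_lhs => rw [← B.linearCombination_repr x]
    rw [Finsupp.linearCombination_apply, Finsupp.sum, map_sum]
    rw [← Finset.sum_subset hsub]
    · exact Finset.sum_congr rfl fun f _ => by rw [map_smul, smul_eq_mul]
    · intro f _ hf
      rw [Finsupp.notMem_support_iff.1 hf, zero_mul]
  let P : MvPolynomial I k := ∑ f ∈ F, MvPolynomial.monomial (mon f) (l f)
  have hP : P = 0 := by
    apply MvPolynomial.funext
    intro t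
    rw [map_zero]
    have h1 : L (PiTensorProduct.tprod k (fun _ : Fin m => ∑ j ∈ J, t j • e j)) = 0 :=
      hL1 (Submodule.subset_span ⟨∑ j ∈ J, t j • e j, rfl⟩)
    rw [← h1]
    rw [MultilinearMap.map_sum_finset, map_sum, map_sum]
    refine Finset.sum_congr rfl fun f _ => ?_
    rw [MultilinearMap.map_smul_univ, map_smul, smul_eq_mul, MvPolynomial.eval_monomial]
    have h2 : (mon f).prod (fun i n => t i ^ n) = ∏ i, t (f i) := by
      unfold mon
      rw [← Finsupp.prod_finsetSum_index]
      · exact Finset.prod_congr rfl fun a _ => by simp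
      · simp
      · intro a b c; exact pow_add _ _ _
    rw [h2, mul_comm]
    congr 1
    show L (B f) = _
    rw [Basis.piTensorProduct_apply]
  have hinv : ∀ f g : Fin m → I, mon f = mon g → B.repr x f = B.repr x g := by
    intro f g h
    obtain ⟨σ, rfl⟩ := exists_perm_of_mon_eq h
    rw [← repr_reindex e σ x g, hx]
  apply hL2
  rw [hLx]
  rw [← Finset.sum_fiberwise_of_maps_to (g := mon) (t := F.image mon) (fun f hf => Finset.mem_image_of_mem _ hf)]
  apply Finset.sum_eq_zero
  intro d hd
  obtain ⟨g, hg, rfl⟩ := Finset.mem_image.1 hd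
  have h3 : ∑ f ∈ F with mon f = mon g, B.repr x f * l f = B.repr x g * ∑ f ∈ F with mon f = mon g, l f := by
    rw [Finset.mul_sum]
    refine Finset.sum_congr rfl fun f hf => ?_
    rw [hinv f g (Finset.mem_filter.1 hf).2]
  rw [h3]
  have h4 : ∑ f ∈ F with mon f = mon g, l f = MvPolynomial.coeff (mon g) P := by
    simp only [P]
    rw [MvPolynomial.coeff_sum, Finset.sum_filter]
    refine Finset.sum_congr rfl fun f _ => ?_
    rw [MvPolynomial.coeff_monomial]
  rw [h4, hP, MvPolynomial.coeff_zero, mul_zero]

end K774.SymTensor
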