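import Mathlib.RingTheory.Spectrum.Prime.FreeLocus
import Mathlib.RingTheory.LocalRing.Module
import Mathlib.RingTheory.Flat.Localization
import Mathlib.Algebra.Module.FinitePresentation
import Mathlib.RingTheory.LocalProperties.FinitePresentation
import Mathlib.RingTheory.QuasiFinite.Basic

/-!
# Trivializations up to scalars

For a finite algebra `A → B` and a finitely generated projective `B`-module `M` of constant rank `k` there are finitely many
pairs of `B`-linear maps `e i : B^k → M`, `ε i : M → B^k` with both composites equal to multiplication by `s i ∈ A`, such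
that the `s i` generate the unit ideal of `A`.
-/

set_option autoImplicit false
universe u v w

open TensorProduct

namespace K774.Triv

theorem finite_maximalSpectrum (R : Type*) [CommRing R] [IsLocalRing R]
    (S : Type*) [CommRing S] [Algebra R S] [Module.Finite R S] : Finite (MaximalSpectrum S) := by
  have := Algebra.QuasiFinite.finite_primesOver (S := S) (IsLocalRing.maximalIdeal R)
  have := this.to_subtype
  refine Finite.of_injective (β := (IsLocalRing.maximalIdeal R).primesOver S)
    (fun q ↦ ⟨q.asIdeal, q.isMaximal.isPrime, ⟨?_⟩⟩) ?_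
  · have := q.isMaximal
    exact (IsLocalRing.eq_maximalIdeal (Ideal.isMaximal_comap_of_isIntegral_of_isMaximal (R := R) q.asIdeal)).symm
  intro q q' h
  ext1
  exact congr_arg Subtype.val h

theorem exists_basis_of_rankAtStalk {A M : Type*} [CommRing A] [Finite (MaximalSpectrum A)]
    [AddCommGroup M] [Module A M] [Module.Finite A M] [Module.Flat A M] (n : ℕ)
    (h : ∀ p, Module.rankAtStalk (R := A) M p = n) : Nonempty (Module.Basis (Fin n) A M) := by
  apply Module.nonempty_basis_of_flat_of_finrank_eq A M n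
  intro P
  let := Ideal.Quotient.field P.asIdeal
  have e1 := Module.rankAtStalk_baseChange (R := A) (M := M) (S := A ⧸ P.asIdeal) ⟨⊥, Ideal.isPrime_bot⟩
  rw [h, Module.rankAtStalk_eq_finrank_of_free] at e1
  exact e1

/-- A basis of a localization gives a trivialization up to scalars. -/
theorem exists_of_basis {B : Type u} [CommRing B] {M : Type v} [AddCommGroup M] [Module B M]
    [Module.FinitePresentation B M] (S : Submonoid B) {k : ℕ}
    (b : Module.Basis (Fin k) (Localization S) (LocalizedModule S M)) :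
    ∃ (e : (Fin k → B) →ₗ[B] M) (ε : M →ₗ[B] (Fin k → B)) (s : S), (∀ m, e (ε m) = (s : B) • m) ∧
      ∀ x, ε (e x) = (s : B) • x := by
  let BS := Localization S
  let g : M →ₗ[B] LocalizedModule S M := LocalizedModule.mkLinearMap S M
  let f : (Fin k → B) →ₗ[B] (Fin k → BS) := LinearMap.pi fun i => (Algebra.linearMap B BS) ∘ₗ LinearMap.proj i
  have hf : IsLocalizedModule S f := by
    have := IsLocalizedModule.pi S (fun _ : Fin k => Algebra.linearMap B BS)
    exact this
  let φ : (Fin k → BS) ≃ₗ[B] LocalizedModule S M := b.equivFun.symm.restrictScalars B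
  obtain ⟨e, s₀, he⟩ := Module.FinitePresentation.exists_lift_of_isLocalizedModule S g (φ.toLinearMap ∘ₗ f)
  obtain ⟨ε, s₁, hε⟩ := Module.FinitePresentation.exists_lift_of_isLocalizedModule S f (φ.symm.toLinearMap ∘ₗ g)
  have he' : ∀ x, g (e x) = s₀ • φ (f x) := fun x => LinearMap.congr_fun he x
  have hε' : ∀ x, f (ε x) = s₁ • φ.symm (g x) := fun x => LinearMap.congr_fun hε x
  have h1 : g ∘ₗ (e ∘ₗ ε) = g ∘ₗ ((s₀ * s₁ : S) • LinearMap.id) := by
    apply LinearMap.ext
    intro m
    simp only [LinearMap.comp_apply, he', hε', LinearMap.smul_apply, LinearMap.id_apply]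
    rw [Submonoid.smul_def, Submonoid.smul_def, Submonoid.smul_def, map_smul, map_smul, LinearEquiv.apply_symm_apply, smul_smul]
    rfl
  have h2 : f ∘ₗ (ε ∘ₗ e) = f ∘ₗ ((s₀ * s₁ : S) • LinearMap.id) := by
    apply LinearMap.ext
    intro m
    simp only [LinearMap.comp_apply, hε', he', LinearMap.smul_apply, LinearMap.id_apply]
    rw [Submonoid.smul_def, Submonoid.smul_def, Submonoid.smul_def, map_smul, map_smul, LinearEquiv.symm_apply_apply, smul_smul,
      mul_comm]
    rfl
  obtain ⟨s₂, hs₂⟩ := Module.Finite.exists_smul_of_comp_eq_of_isLocalizedModule S g _ _ h1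
  obtain ⟨s₃, hs₃⟩ := Module.Finite.exists_smul_of_comp_eq_of_isLocalizedModule S f _ _ h2
  refine ⟨e, ((s₂ * s₃ : S) : B) • ε, s₂ * s₃ * (s₀ * s₁), ?_, ?_⟩
  · intro m
    have h3 := LinearMap.congr_fun hs₂ m
    simp only [Submonoid.smul_def, LinearMap.smul_apply, LinearMap.comp_apply, LinearMap.id_apply] at h3
    rw [LinearMap.smul_apply, map_smul]
    have : ((s₂ * s₃ : S) : B) • e (ε m) = (s₃ : B) • ((s₂ : B) • e (ε m)) := by
      rw [smul_smul, mul_comm (s₃ : B)]; rfl
    rw [this, h3, smul_smul, smul_smul]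
    congr 1
    simp only [Submonoid.coe_mul]; ring
  · intro x
    have h3 := LinearMap.congr_fun hs₃ x
    simp only [Submonoid.smul_def, LinearMap.smul_apply, LinearMap.comp_apply, LinearMap.id_apply] at h3
    rw [LinearMap.smul_apply]
    have : ((s₂ * s₃ : S) : B) • ε (e x) = (s₂ : B) • ((s₃ : B) • ε (e x)) := by
      rw [smul_smul]; rfl
    rw [this, h3, smul_smul, smul_smul]
    congr 1

/-- A family of trivializations up to scalars. -/
structure Fam (A : Type u) (B : Type v) (M : Type w) [CommRing A] [CommRing B] [Algebra A B] [AddCommGroup M] [Module B M]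
    (k : ℕ) where
  r : ℕ
  s : Fin r → A
  e : Fin r → ((Fin k → B) →ₗ[B] M)
  ε : Fin r → (M →ₗ[B] (Fin k → B))
  h1 : ∀ i m, e i (ε i m) = algebraMap A B (s i) • m
  h2 : ∀ i x, ε i (e i x) = algebraMap A B (s i) • x
  span : Ideal.span (Set.range s) = ⊤

theorem Fam.exists_sum {A : Type u} {B : Type v} {M : Type w} [CommRing A] [CommRing B] [Algebra A B] [AddCommGroup M]
    [Module B M] {k : ℕ} (F : Fam A B M k) (N : ℕ) : ∃ t : Fin F.r → A, ∑ i, t i * F.s i ^ N = 1 := by
  have h := Ideal.span_pow_eq_top (Set.range F.s) F.span N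
  have h1 : (1 : A) ∈ Ideal.span (Set.range fun i => F.s i ^ N) := by
    have : ((fun x => x ^ N) '' Set.range F.s) = Set.range fun i => F.s i ^ N := by
      rw [← Set.range_comp]; rfl
    rw [← this, h]; trivial
  obtain ⟨t, ht⟩ := (Ideal.mem_span_range_iff_exists_fun).1 h1
  exact ⟨t, ht⟩

theorem exists_at {A : Type u} {B : Type v} {M : Type w} [CommRing A] [CommRing B] [Algebra A B] [Module.Finite A B]
    [AddCommGroup M] [Module B M] [Module.Finite B M] [Module.Projective B M] (k : ℕ)
    (hM : ∀ q : PrimeSpectrum B, Module.finrank (Localization.AtPrime q.asIdeal)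
      (LocalizedModule q.asIdeal.primeCompl M) = k) (p : Ideal A) [p.IsPrime] :
    ∃ (s : A) (_ : s ∉ p) (e : (Fin k → B) →ₗ[B] M) (ε : M →ₗ[B] (Fin k → B)), (∀ m, e (ε m) = algebraMap A B s • m) ∧
      ∀ x, ε (e x) = algebraMap A B s • x := by
  have : Module.FinitePresentation B M := Module.finitePresentation_of_projective B M
  let S := Algebra.algebraMapSubmonoid B p.primeCompl
  let BS := Localization S
  let MS := LocalizedModule S M
  have : Module.Finite (Localization.AtPrime p) BS :=
    Module.Finite.of_isLocalization A B p.primeCompl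
  have : Finite (MaximalSpectrum BS) := finite_maximalSpectrum (Localization.AtPrime p) BS
  have hbc : IsBaseChange BS (LocalizedModule.mkLinearMap S M) := LocalizedModule.isBaseChange S M
  have : Module.Finite BS MS := Module.Finite.of_isLocalizedModule S (Rₚ := BS) (LocalizedModule.mkLinearMap S M)
  have : Module.Flat BS MS := Module.Flat.of_isLocalizedModule (Rp := BS) S (LocalizedModule.mkLinearMap S M)
  obtain ⟨b⟩ := exists_basis_of_rankAtStalk (A := BS) (M := MS) k (fun q => by
    rw [Module.rankAtStalk_isBaseChange hbc q]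
    exact hM _)
  obtain ⟨e, ε, ⟨s, a, ha, rfl⟩, h1, h2⟩ := exists_of_basis (M := M) S b
  exact ⟨a, ha, e, ε, h1, h2⟩

theorem nonempty_fam {A : Type u} {B : Type v} {M : Type w} [CommRing A] [CommRing B] [Algebra A B] [Module.Finite A B]
    [AddCommGroup M] [Module B M] [Module.Finite B M] [Module.Projective B M] (k : ℕ)
    (hM : ∀ q : PrimeSpectrum B, Module.finrank (Localization.AtPrime q.asIdeal)
      (LocalizedModule q.asIdeal.primeCompl M) = k) : Nonempty (Fam A B M k) := by
  let T : Set A := {s | ∃ (e : (Fin k → B) →ₗ[B] M) (ε : M →ₗ[B] (Fin k → B)), (∀ m, e (ε m) = algebraMap A B s • m) ∧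
      ∀ x, ε (e x) = algebraMap A B s • x}
  have hT : Ideal.span T = ⊤ := by
    by_contra hne
    obtain ⟨p, hp, hle⟩ := Ideal.exists_le_maximal _ hne
    obtain ⟨s, hs, e, ε, h1, h2⟩ := exists_at (A := A) (M := M) k hM p
    exact hs (hle (Ideal.subset_span ⟨e, ε, h1, h2⟩))
  obtain ⟨T', hT', hT'2⟩ := (Ideal.span_eq_top_iff_finite T).1 hT
  let r := T'.card
  let en : Fin r ≃ T' := T'.equivFin.symm
  choose e ε h1 h2 using fun i : Fin r => hT' (en i).2
  refine ⟨⟨r, fun i => (en i).1, e, ε, h1, h2, ?_⟩⟩
  rw [← hT'2]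
  congr 1
  ext x
  constructor
  · rintro ⟨i, rfl⟩
    exact (en i).2
  · intro hx
    exact ⟨en.symm ⟨x, hx⟩, by simp⟩

end K774.Triv
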