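import Mathlib.LinearAlgebra.ExteriorPower.Basic
import Mathlib.LinearAlgebra.ExteriorPower.Basis
import Mathlib.LinearAlgebra.Determinant
import Groth.Agent.HilbChow.K774.Triv

/-!
# Exterior powers of modules that are free up to scalars
-/

set_option autoImplicit false
universe u v w

open TensorProduct

namespace K774.ExtPow

open exteriorPower

variable {A : Type u} [CommRing A] {E : Type v} [AddCommGroup E] [Module A E] {F : Type w} [AddCommGroup F] [Module A F]

theorem map_smul (n : ℕ) (a : A) (f : E →ₗ[A] F) : exteriorPower.map n (a • f) = a ^ n • exteriorPower.map n f := by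
  apply exteriorPower.linearMap_ext
  ext v
  simp only [LinearMap.compAlternatingMap_apply, exteriorPower.map_apply_ιMulti, LinearMap.smul_apply]
  have h : (⇑(a • f) ∘ v) = fun i => a • (f ∘ v) i := rfl
  rw [h, AlternatingMap.map_smul_univ]
  simp

theorem map_smul_id (n : ℕ) (a : A) : exteriorPower.map n (a • (LinearMap.id : E →ₗ[A] E)) = a ^ n • LinearMap.id := by
  rw [map_smul, exteriorPower.map_id]

theorem ιMulti_eq_det {n : ℕ} (b : Module.Basis (Fin n) A E) (v : Fin n → E) :
    exteriorPower.ιMulti A n v = b.det v • exteriorPower.ιMulti A n b := by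
  have key : exteriorPower.ιMulti A n (M := E) = (LinearMap.toSpanSingleton A _ (exteriorPower.ιMulti A n b)).compAlternatingMap b.det := by
    apply Module.Basis.ext_alternating b
    intro σ hσ
    let τ : Equiv.Perm (Fin n) := Equiv.ofBijective σ (Finite.injective_iff_bijective.1 hσ)
    have h1 : (fun i => b (σ i)) = b ∘ τ := rfl
    rw [h1, AlternatingMap.map_perm, LinearMap.compAlternatingMap_apply, AlternatingMap.map_perm, Module.Basis.det_self]
    simp
  conv_lhs => rw [key]
  rfl

theorem map_eq_det {n : ℕ} (b : Module.Basis (Fin n) A E) (g : E →ₗ[A] E) :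
    exteriorPower.map n g = LinearMap.det g • LinearMap.id := by
  apply exteriorPower.linearMap_ext
  ext v
  simp only [LinearMap.compAlternatingMap_apply, exteriorPower.map_apply_ιMulti, LinearMap.smul_apply, LinearMap.id_apply]
  rw [ιMulti_eq_det b, ιMulti_eq_det b v, Module.Basis.det_comp, mul_smul]

theorem subsingleton_of_lt {n m : ℕ} (b : Module.Basis (Fin n) A E) (h : n < m) : Subsingleton (⋀[A]^m E) := by
  have key : exteriorPower.ιMulti A m (M := E) = 0 := by
    apply Module.Basis.ext_alternating b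
    intro σ hσ
    have := Fintype.card_le_of_injective σ hσ
    simp at this
    omega
  have h2 : (⊤ : Submodule A (⋀[A]^m E)) ≤ ⊥ := by
    rw [← exteriorPower.ιMulti_span, Submodule.span_le]
    rintro _ ⟨v, rfl⟩
    rw [key]; rfl
  exact (Submodule.subsingleton_iff A).1 (subsingleton_of_bot_eq_top (top_le_iff.1 (h2.trans bot_le) ▸ (le_bot_iff.1 h2).symm))

theorem map_comp_apply' (n : ℕ) {G : Type*} [AddCommGroup G] [Module A G] (f : E →ₗ[A] F) (g : F →ₗ[A] G) (x : ⋀[A]^n E) :
    exteriorPower.map n g (exteriorPower.map n f x) = exteriorPower.map n (g ∘ₗ f) x := by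
  rw [exteriorPower.map_comp]; rfl

/-- Vanishing of exterior powers above the rank. -/
theorem subsingleton_of_fam {n m : ℕ} (T : Triv.Fam A A E n) (h : n < m) : Subsingleton (⋀[A]^m E) := by
  obtain ⟨t, ht⟩ := T.exists_sum m
  have hs := subsingleton_of_lt (Pi.basisFun A (Fin n)) h
  have key : ∀ x : ⋀[A]^m E, x = 0 := by
    intro x
    have h1 : x = ∑ i, t i • exteriorPower.map m (T.e i) (exteriorPower.map m (T.ε i) x) := by
      have h2 : ∀ i, exteriorPower.map m (T.e i) (exteriorPower.map m (T.ε i) x) = T.s i ^ m • x := by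
        intro i
        rw [map_comp_apply']
        have : T.e i ∘ₗ T.ε i = T.s i • LinearMap.id := by
          apply LinearMap.ext; intro y; exact T.h1 i y
        rw [this, map_smul_id]; rfl
      simp only [h2, smul_smul, ← Finset.sum_smul, ht, one_smul]
    rw [h1]
    refine Finset.sum_eq_zero fun i _ => ?_
    rw [Subsingleton.elim (exteriorPower.map m (T.ε i) x) 0, map_zero, smul_zero]
  exact ⟨fun x y => by rw [key x, key y]⟩

/-- Transport of scalars between exterior powers. -/
theorem transport {r n : ℕ} (t s : Fin r → A) (ht : ∑ i, t i * s i ^ n = 1) (f : Fin r → (E →ₗ[A] F))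
    (g : Fin r → (F →ₗ[A] E)) (hfg : ∀ i, f i ∘ₗ g i = s i • LinearMap.id) (βE : E →ₗ[A] E) (βF : F →ₗ[A] F)
    (hβ : ∀ i, f i ∘ₗ βE = βF ∘ₗ f i) (c : A) (hc : exteriorPower.map n βE = c • LinearMap.id) :
    exteriorPower.map n βF = c • LinearMap.id := by
  have h1 : ∀ i, s i ^ n • exteriorPower.map n βF = (c * s i ^ n) • LinearMap.id := by
    intro i
    calc s i ^ n • exteriorPower.map n βF = exteriorPower.map n (βF ∘ₗ (f i ∘ₗ g i)) := by
          rw [hfg, exteriorPower.map_comp, map_smul_id, LinearMap.comp_smul, LinearMap.comp_id]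
      _ = exteriorPower.map n (f i) ∘ₗ exteriorPower.map n βE ∘ₗ exteriorPower.map n (g i) := by
          rw [← LinearMap.comp_assoc, ← hβ, exteriorPower.map_comp, exteriorPower.map_comp, LinearMap.comp_assoc]
      _ = c • (exteriorPower.map n (f i) ∘ₗ exteriorPower.map n (g i)) := by
          rw [hc, LinearMap.smul_comp, LinearMap.comp_smul, LinearMap.id_comp]
      _ = (c * s i ^ n) • LinearMap.id := by
          rw [← exteriorPower.map_comp, hfg, map_smul_id, smul_smul]
  calc exteriorPower.map n βF = (∑ i, t i * s i ^ n) • exteriorPower.map n βF := by rw [ht, one_smul]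
    _ = ∑ i, t i • (s i ^ n • exteriorPower.map n βF) := by
        rw [Finset.sum_smul]; simp only [mul_smul]
    _ = c • LinearMap.id := by
        simp only [h1]
        simp only [smul_smul]
        rw [← Finset.sum_smul]
        congr 1
        have : ∀ i, t i * (c * s i ^ n) = c * (t i * s i ^ n) := fun i => by ring
        simp only [this]
        rw [← Finset.mul_sum, ht, mul_one]

/-- The top exterior power of an endomorphism is a scalar. -/
theorem exists_scalar {n : ℕ} (T : Triv.Fam A A E n) (g : E →ₗ[A] E) :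
    ∃ c : A, exteriorPower.map n g = c • LinearMap.id := by
  obtain ⟨t, ht⟩ := T.exists_sum (2 * n)
  have hs : ∀ i, T.e i ∘ₗ T.ε i = T.s i • LinearMap.id := fun i => by
    apply LinearMap.ext; intro y; exact T.h1 i y
  have h1 : ∀ i, T.s i ^ (2 * n) • exteriorPower.map n g = (LinearMap.det (T.ε i ∘ₗ g ∘ₗ T.e i) * T.s i ^ n) • LinearMap.id := by
    intro i
    calc T.s i ^ (2 * n) • exteriorPower.map n g
        = exteriorPower.map n ((T.e i ∘ₗ T.ε i) ∘ₗ g ∘ₗ (T.e i ∘ₗ T.ε i)) := by
          rw [hs, LinearMap.comp_smul, LinearMap.comp_smul, LinearMap.smul_comp, LinearMap.comp_id, LinearMap.id_comp, map_smul,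
            map_smul, smul_smul, ← pow_add, two_mul]
      _ = exteriorPower.map n (T.e i) ∘ₗ exteriorPower.map n (T.ε i ∘ₗ g ∘ₗ T.e i) ∘ₗ exteriorPower.map n (T.ε i) := by
          rw [← exteriorPower.map_comp, ← exteriorPower.map_comp]; rfl
      _ = LinearMap.det (T.ε i ∘ₗ g ∘ₗ T.e i) • (exteriorPower.map n (T.e i) ∘ₗ exteriorPower.map n (T.ε i)) := by
          rw [map_eq_det (Pi.basisFun A (Fin n)), LinearMap.smul_comp, LinearMap.comp_smul, LinearMap.id_comp]
      _ = (LinearMap.det (T.ε i ∘ₗ g ∘ₗ T.e i) * T.s i ^ n) • LinearMap.id := by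
          rw [← exteriorPower.map_comp, hs, map_smul_id, smul_smul]
  refine ⟨∑ i, t i * (LinearMap.det (T.ε i ∘ₗ g ∘ₗ T.e i) * T.s i ^ n), ?_⟩
  calc exteriorPower.map n g = (∑ i, t i * T.s i ^ (2 * n)) • exteriorPower.map n g := by rw [ht, one_smul]
    _ = ∑ i, t i • (T.s i ^ (2 * n) • exteriorPower.map n g) := by
        rw [Finset.sum_smul]; simp only [mul_smul]
    _ = _ := by
        simp only [h1, smul_smul]
        rw [← Finset.sum_smul]

end K774.ExtPow
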