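import Groth.Agent.Sga67.ExtAlg
import Groth.Agent.HilbChow.K774.ExtPow
import Mathlib.LinearAlgebra.TensorPower.Basic

/-!
# The top exterior power of a direct sum
-/

set_option autoImplicit false
universe u v w

open TensorProduct

namespace K774.ExtSum

open Groth.Agent.Sga67.ExtAlg

variable {A : Type u} [CommRing A] {E : Type v} [AddCommGroup E] [Module A E] {F : Type w} [AddCommGroup F] [Module A F]

theorem subsingleton_tensor_left {P Q : Type*} [AddCommGroup P] [Module A P] [AddCommGroup Q] [Module A Q] [Subsingleton P] :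
    Subsingleton (P ⊗[A] Q) := by
  have h : ∀ t : P ⊗[A] Q, t = 0 := by
    intro t
    induction t using TensorProduct.induction_on with
    | zero => rfl
    | tmul x y => rw [Subsingleton.elim x 0, TensorProduct.zero_tmul]
    | add x y hx hy => rw [hx, hy, add_zero]
  exact ⟨fun x y => by rw [h x, h y]⟩

theorem subsingleton_tensor_right {P Q : Type*} [AddCommGroup P] [Module A P] [AddCommGroup Q] [Module A Q] [Subsingleton Q] :
    Subsingleton (P ⊗[A] Q) := by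
  have h : ∀ t : P ⊗[A] Q, t = 0 := by
    intro t
    induction t using TensorProduct.induction_on with
    | zero => rfl
    | tmul x y => rw [Subsingleton.elim y 0, TensorProduct.tmul_zero]
    | add x y hx hy => rw [hx, hy, add_zero]
  exact ⟨fun x y => by rw [h x, h y]⟩

/-- The elements of the top exterior power of a direct sum come from the deepest step of the filtration. -/
theorem mu_surjective {p q : ℕ} (hq : ∀ m, q < m → Subsingleton (⋀[A]^m F)) :
    ∀ (i j : ℕ) (h : i + j = p + q) (_ : i ≤ p), Function.Surjective (mu h (LinearMap.inl A E F)) := by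
  intro i
  induction i with
  | zero =>
    intro j h _
    exact mu_zero_surjective h _
  | succ i ih =>
    intro j h hi x
    have h1 : i + (j + 1) = p + q := by omega
    obtain ⟨t, rfl⟩ := ih (j + 1) h1 (by omega) x
    have : Subsingleton (⋀[A]^(j + 1) F) := hq _ (by omega)
    have hs : Subsingleton ((⋀[A]^i E) ⊗[A] (⋀[A]^(j + 1) F)) := subsingleton_tensor_right
    exact exists_mu_eq_of_pi_eq_zero h1 h (LinearMap.inl A E F) (LinearMap.snd A E F) (LinearMap.fst A E F)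
      (LinearMap.inr A E F) (fun m => by ext <;> simp) t (Subsingleton.elim _ _)

theorem mu_eq_zero_iff {p q : ℕ} (hp : ∀ m, p < m → Subsingleton (⋀[A]^m E)) (t : (⋀[A]^p E) ⊗[A] (⋀[A]^q (E × F))) :
    mu rfl (LinearMap.inl A E F) t = 0 ↔ pi E p q (LinearMap.snd A E F) t = 0 := by
  constructor
  · intro h
    exact pi_eq_zero_of_mu_eq_zero rfl (LinearMap.inl A E F) (LinearMap.snd A E F) (LinearMap.fst A E F)
      (by ext; simp) (by ext; simp) t h
  · intro h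
    cases q with
    | zero =>
      have : t = 0 := pi_zero_injective (LinearMap.snd A E F) (by rw [h, map_zero])
      rw [this, map_zero]
    | succ q =>
      obtain ⟨t', ht'⟩ := exists_mu_eq_of_pi_eq_zero (rfl : p + (q + 1) = p + (q + 1)) (by omega) (LinearMap.inl A E F)
        (LinearMap.snd A E F) (LinearMap.fst A E F) (LinearMap.inr A E F) (fun m => by ext <;> simp) t h
      have : Subsingleton (⋀[A]^(p + 1) E) := hp _ (by omega)
      have hs : Subsingleton ((⋀[A]^(p + 1) E) ⊗[A] (⋀[A]^q (E × F))) := subsingleton_tensor_left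
      rw [← ht', Subsingleton.elim t' 0, map_zero]

theorem equiv_of_surj {P Q R : Type*} [AddCommGroup P] [Module A P] [AddCommGroup Q] [Module A Q] [AddCommGroup R] [Module A R]
    (f : P →ₗ[A] Q) (g : P →ₗ[A] R) (hf : Function.Surjective f) (hg : Function.Surjective g)
    (h : ∀ t, f t = 0 ↔ g t = 0) : Nonempty (Q ≃ₗ[A] R) := by
  have h3 : LinearMap.ker f = LinearMap.ker g := by
    ext t
    rw [LinearMap.mem_ker, LinearMap.mem_ker]
    exact h t
  exact ⟨(LinearMap.quotKerEquivOfSurjective _ hf).symm.trans ((Submodule.quotEquivOfEq _ _ h3).trans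
    (LinearMap.quotKerEquivOfSurjective _ hg))⟩

/-- `⋀^{p+q}(E × F) ≅ ⋀^p E ⊗ ⋀^q F` if the higher exterior powers of `E` and `F` vanish. -/
theorem nonempty_equiv {p q : ℕ} (hp : ∀ m, p < m → Subsingleton (⋀[A]^m E)) (hq : ∀ m, q < m → Subsingleton (⋀[A]^m F)) :
    Nonempty ((⋀[A]^(p + q) (E × F)) ≃ₗ[A] (⋀[A]^p E) ⊗[A] (⋀[A]^q F)) := by
  have h1 := mu_surjective (E := E) hq p q rfl le_rfl
  have h2 : Function.Surjective (pi E p q (LinearMap.snd A E F)) := pi_surjective _ (LinearMap.snd_surjective)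
  exact equiv_of_surj (P := (⋀[A]^p E) ⊗[A] (⋀[A]^q (E × F))) (Q := (⋀[A]^(p + q) (E × F))) (R := (⋀[A]^p E) ⊗[A] (⋀[A]^q F))
    _ _ h1 h2 fun t => mu_eq_zero_iff hp t

/-- Functoriality of exterior powers for isomorphisms. -/
noncomputable def mapEquiv (n : ℕ) (e : E ≃ₗ[A] F) : (⋀[A]^n E) ≃ₗ[A] (⋀[A]^n F) :=
  LinearEquiv.ofLinearMap (exteriorPower.map n e.toLinearMap) (exteriorPower.map n e.symm.toLinearMap)
    (by rw [← exteriorPower.map_comp]; simp [exteriorPower.map_id])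
    (by rw [← exteriorPower.map_comp]; simp [exteriorPower.map_id])

/-- Equality of exponents. -/
def castEquiv {n m : ℕ} (h : n = m) : (⋀[A]^n E) ≃ₗ[A] (⋀[A]^m E) :=
  LinearEquiv.ofEq _ _ (by rw [h])

/-- The top exterior power of `E^{j+1}`. -/
theorem nonempty_equiv_pi {n : ℕ} (hE : ∀ j m, n * j < m → Subsingleton (⋀[A]^m (Fin j → E))) (hE1 : ∀ m, n < m → Subsingleton (⋀[A]^m E))
    (j : ℕ) : Nonempty ((⋀[A]^(n * (j + 1)) (Fin (j + 1) → E)) ≃ₗ[A] (TensorPower A j (⋀[A]^n E)) ⊗[A] (⋀[A]^n E)) := by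
  induction j with
  | zero =>
    have e0 : (⋀[A]^(n * (0 + 1)) (Fin (0 + 1) → E)) ≃ₗ[A] (⋀[A]^n (Fin 1 → E)) := castEquiv (by omega)
    have e1 : (⋀[A]^n (Fin 1 → E)) ≃ₗ[A] (⋀[A]^n E) := mapEquiv n (LinearEquiv.funUnique (Fin 1) A E)
    have e2 : (⋀[A]^n E) ≃ₗ[A] A ⊗[A] (⋀[A]^n E) := (TensorProduct.lid A _).symm
    have e3 : A ≃ₗ[A] TensorPower A 0 (⋀[A]^n E) := (PiTensorProduct.isEmptyEquiv (Fin 0)).symm
    have e4 : A ⊗[A] (⋀[A]^n E) ≃ₗ[A] (TensorPower A 0 (⋀[A]^n E)) ⊗[A] (⋀[A]^n E) :=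
      TensorProduct.congr e3 (LinearEquiv.refl A _)
    exact ⟨e0.trans (e1.trans (e2.trans e4))⟩
  | succ j ih =>
    obtain ⟨e1⟩ := ih
    obtain ⟨e2⟩ := nonempty_equiv (A := A) (E := E) (F := Fin (j + 1) → E) hE1 (hE (j + 1))
    let e3 : (Fin (j + 1 + 1) → E) ≃ₗ[A] E × (Fin (j + 1) → E) := (Fin.consLinearEquiv A (fun _ => E)).symm
    have e4 : (⋀[A]^(n * (j + 1 + 1)) (Fin (j + 1 + 1) → E)) ≃ₗ[A] (⋀[A]^(n + n * (j + 1)) (Fin (j + 1 + 1) → E)) :=
      castEquiv (by ring)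
    have e5 : (⋀[A]^(n + n * (j + 1)) (Fin (j + 1 + 1) → E)) ≃ₗ[A] (⋀[A]^(n + n * (j + 1)) (E × (Fin (j + 1) → E))) :=
      mapEquiv _ e3
    have e6 : (⋀[A]^n E) ⊗[A] (⋀[A]^(n * (j + 1)) (Fin (j + 1) → E)) ≃ₗ[A]
        (⋀[A]^n E) ⊗[A] ((TensorPower A j (⋀[A]^n E)) ⊗[A] (⋀[A]^n E)) := TensorProduct.congr (LinearEquiv.refl A _) e1
    have e7 : (⋀[A]^n E) ⊗[A] ((TensorPower A j (⋀[A]^n E)) ⊗[A] (⋀[A]^n E)) ≃ₗ[A]
        ((⋀[A]^n E) ⊗[A] (TensorPower A j (⋀[A]^n E))) ⊗[A] (⋀[A]^n E) := (TensorProduct.assoc A _ _ _).symm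
    have e8 : (⋀[A]^n E) ⊗[A] (TensorPower A j (⋀[A]^n E)) ≃ₗ[A] (TensorPower A j (⋀[A]^n E)) ⊗[A] (⋀[A]^n E) :=
      TensorProduct.comm A _ _
    have e9 : (⋀[A]^n E) ≃ₗ[A] TensorPower A 1 (⋀[A]^n E) :=
      (PiTensorProduct.subsingletonEquiv (R := A) (s := fun _ : Fin 1 => ⋀[A]^n E) (0 : Fin 1)).symm
    have e10 : (TensorPower A j (⋀[A]^n E)) ⊗[A] (⋀[A]^n E) ≃ₗ[A] (TensorPower A j (⋀[A]^n E)) ⊗[A] (TensorPower A 1 (⋀[A]^n E)) :=
      TensorProduct.congr (LinearEquiv.refl A _) e9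
    have e11 : (TensorPower A j (⋀[A]^n E)) ⊗[A] (TensorPower A 1 (⋀[A]^n E)) ≃ₗ[A] TensorPower A (j + 1) (⋀[A]^n E) :=
      TensorPower.mulEquiv
    have e12 : ((⋀[A]^n E) ⊗[A] (TensorPower A j (⋀[A]^n E))) ⊗[A] (⋀[A]^n E) ≃ₗ[A]
        (TensorPower A (j + 1) (⋀[A]^n E)) ⊗[A] (⋀[A]^n E) :=
      TensorProduct.congr (e8.trans (e10.trans e11)) (LinearEquiv.refl A _)
    exact ⟨e4.trans (e5.trans (e2.trans (e6.trans (e7.trans e12))))⟩
  
end K774.ExtSum
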