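import Mathlib.RingTheory.Norm.Defs
import Mathlib.RingTheory.Norm.Basic
import Mathlib.FieldTheory.IsAlgClosed.Basic
import Mathlib.RingTheory.Localization.AtPrime.Basic
import Mathlib.Algebra.BigOperators.Finprod
import Mathlib.RingTheory.Ideal.Maps
import Mathlib.RingTheory.Artinian.Module
import Mathlib.RingTheory.Artinian.Ring
import Mathlib.LinearAlgebra.Determinant
import Mathlib.LinearAlgebra.Eigenspace.Zero
import Mathlib.LinearAlgebra.Charpoly.Basic
import Mathlib.RingTheory.Spectrum.Prime.Topology
import Mathlib.RingTheory.Spectrum.Prime.Noetherian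
import Mathlib.RingTheory.LocalRing.ResidueField.Basic

/-!
# Norms from finite-dimensional algebras

The norm of an element of a finite product is the product of the norms; the norm of an element `x` of a finite-dimensional
local algebra that is congruent to the scalar `c` modulo the maximal ideal is `c ^ n`.
-/

set_option autoImplicit false
universe u v w

namespace K774.Norm

theorem det_eq_of_ker {k : Type u} [Field k] {M : Type v} {N : Type w} [AddCommGroup M] [Module k M] [Module.Finite k M]
    [AddCommGroup N] [Module k N] (p : M →ₗ[k] N) (hp : Function.Surjective p)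
    (F : M →ₗ[k] M) (g : N →ₗ[k] N) (hc : p ∘ₗ F = g ∘ₗ p) (hid : ∀ x ∈ LinearMap.ker p, F x = x) :
    LinearMap.det F = LinearMap.det g := by
  have he : LinearMap.ker p ≤ (LinearMap.ker p).comap F := by
    intro x hx
    rw [Submodule.mem_comap, hid x hx]
    exact hx
  rw [LinearMap.det_eq_det_mul_det (LinearMap.ker p) F he]
  have h1 : F.restrict he = LinearMap.id := by
    ext x
    exact hid x.1 x.2
  rw [h1, LinearMap.det_id, one_mul]
  let e := p.quotKerEquivOfSurjective hp
  have h2 : (LinearMap.ker p).mapQ (LinearMap.ker p) F he = (e.symm : N →ₗ[k] _) ∘ₗ g ∘ₗ (e : _ →ₗ[k] N) := by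
    apply Submodule.linearMap_qext
    ext x
    simp only [LinearMap.comp_apply, Submodule.mkQ_apply, Submodule.mapQ_apply, LinearEquiv.coe_coe]
    rw [LinearEquiv.eq_symm_apply]
    have h3 : ∀ y, e (Submodule.Quotient.mk y) = p y := fun y => rfl
    rw [h3, h3]
    exact LinearMap.congr_fun hc x
  rw [h2]
  have := LinearMap.det_conj g e.symm
  rw [LinearEquiv.symm_symm] at this
  exact this

theorem norm_mulSingle {k : Type u} [Field k] {ι : Type v} [Finite ι] [DecidableEq ι] (S : ι → Type w)
    [∀ i, CommRing (S i)] [∀ i, Algebra k (S i)] [∀ i, Module.Finite k (S i)] (i : ι) (a : S i) :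
    Algebra.norm k (Pi.mulSingle i a : ∀ i, S i) = Algebra.norm k a := by
  rw [Algebra.norm_apply, Algebra.norm_apply]
  refine det_eq_of_ker (LinearMap.proj i) (LinearMap.proj_surjective i) _ _ ?_ ?_
  · ext x
    simp
  · intro x hx
    rw [LinearMap.mem_ker] at hx
    ext j
    by_cases h : j = i
    · subst h
      have hx' : x j = 0 := hx
      simp [hx']
    · simp [Pi.mulSingle_eq_of_ne h]

theorem norm_pi {k : Type u} [Field k] {ι : Type v} [Fintype ι] (S : ι → Type w)
    [∀ i, CommRing (S i)] [∀ i, Algebra k (S i)] [∀ i, Module.Finite k (S i)] (a : ∀ i, S i) :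
    Algebra.norm k a = ∏ i, Algebra.norm k (a i) := by
  classical
  conv_lhs => rw [← Finset.univ_prod_mulSingle a]
  rw [map_prod]
  exact Finset.prod_congr rfl fun i _ => norm_mulSingle S i (a i)

theorem norm_of_isNilpotent_sub {k : Type u} [Field k] {B : Type v} [CommRing B] [Algebra k B] [Module.Finite k B]
    (x : B) (c : k) (h : IsNilpotent (algebraMap k B c - x)) :
    Algebra.norm k x = c ^ Module.finrank k B := by
  rw [Algebra.norm_apply]
  have h1 : IsNilpotent (LinearMap.mul k B (algebraMap k B c - x)) := by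
    have := h.map (Algebra.lmul k B)
    exact this
  have h2 := LinearMap.eval_charpoly (LinearMap.mul k B (algebraMap k B c - x)) c
  rw [IsNilpotent.charpoly_eq_X_pow_finrank h1] at h2
  simp only [Polynomial.eval_pow, Polynomial.eval_X] at h2
  rw [h2]
  congr 1
  ext y
  simp [Algebra.smul_def]

theorem norm_of_mem_maximalIdeal {k : Type u} [Field k] {B : Type v} [CommRing B] [IsLocalRing B] [Algebra k B]
    [Module.Finite k B] (x : B) (c : k) (h : algebraMap k B c - x ∈ IsLocalRing.maximalIdeal B) :
    Algebra.norm k x = c ^ Module.finrank k B := by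
  apply norm_of_isNilpotent_sub
  have : IsArtinianRing B := IsArtinianRing.of_finite k B
  obtain ⟨n, hn⟩ := IsArtinianRing.isNilpotent_jacobson_bot (R := B)
  rw [IsLocalRing.jacobson_eq_maximalIdeal ⊥ bot_ne_top] at hn
  refine ⟨n, ?_⟩
  have := Ideal.pow_mem_pow h n
  rw [hn] at this
  simpa using this

theorem algebraMap_norm {k A : Type*} [Field k] [IsAlgClosed k] [CommRing A] [Algebra k A] [IsLocalRing A]
    [Module.Finite k A] (u : A) :
    algebraMap k (IsLocalRing.ResidueField A) (Algebra.norm k u) =
      IsLocalRing.residue A u ^ Module.finrank k A := by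
  have : Module.Finite A (IsLocalRing.ResidueField A) :=
    Module.Finite.of_surjective (Algebra.linearMap A (IsLocalRing.ResidueField A)) (IsLocalRing.residue_surjective)
  have : Module.Finite k (IsLocalRing.ResidueField A) := Module.Finite.trans A _
  have hs : Function.Surjective (algebraMap k (IsLocalRing.ResidueField A)) :=
    (IsAlgClosed.algebraMap_bijective_of_isIntegral (k := k)).2
  obtain ⟨c, hc⟩ := hs (IsLocalRing.residue A u)
  have h1 : algebraMap k A c - u ∈ IsLocalRing.maximalIdeal A := by
    rw [← IsLocalRing.residue_eq_zero_iff, map_sub, ← hc, sub_eq_zero]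
    exact (IsScalarTower.algebraMap_apply k A (IsLocalRing.ResidueField A) c).symm
  rw [norm_of_mem_maximalIdeal u c h1, map_pow, hc]

/-- The maximal ideal attached to a rational point. -/
noncomputable def ptMax {k A : Type*} [Field k] [CommRing A] [Algebra k A] (φ : A →ₐ[k] k) : MaximalSpectrum A :=
  ⟨Ideal.comap φ ⊥, Ideal.comap_isMaximal_of_surjective φ (fun c => ⟨algebraMap k A c, by simp⟩)⟩

theorem ptMax_bijective {k A : Type*} [Field k] [IsAlgClosed k] [CommRing A] [Algebra k A] [Module.Finite k A] :
    Function.Bijective (ptMax (k := k) (A := A)) := by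
  constructor
  · intro φ ψ h
    have h1 : Ideal.comap φ ⊥ = Ideal.comap ψ ⊥ := congrArg MaximalSpectrum.asIdeal h
    ext x
    have h2 : x - algebraMap k A (φ x) ∈ Ideal.comap φ ⊥ := by
      rw [Ideal.mem_comap]; simp
    rw [h1, Ideal.mem_comap] at h2
    simp only [map_sub, AlgHom.commutes, Algebra.algebraMap_self, RingHom.id_apply, Ideal.mem_bot] at h2
    exact (sub_eq_zero.1 h2).symm
  · intro m
    have : m.asIdeal.IsMaximal := m.isMaximal
    let _ : Field (A ⧸ m.asIdeal) := Ideal.Quotient.field _
    have : Module.Finite k (A ⧸ m.asIdeal) := Module.Finite.trans A _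
    have hb : Function.Bijective (algebraMap k (A ⧸ m.asIdeal)) :=
      IsAlgClosed.algebraMap_bijective_of_isIntegral
    let e := AlgEquiv.ofBijective (Algebra.ofId k (A ⧸ m.asIdeal)) hb
    refine ⟨(e.symm : (A ⧸ m.asIdeal) →ₐ[k] k).comp (Ideal.Quotient.mkₐ k m.asIdeal), ?_⟩
    apply MaximalSpectrum.ext
    ext x
    show x ∈ Ideal.comap _ ⊥ ↔ _
    rw [Ideal.mem_comap]
    simp [Ideal.Quotient.eq_zero_iff_mem]

theorem norm_eq_finprod (k A : Type*) [Field k] [IsAlgClosed k] [CommRing A] [Algebra k A] [Module.Finite k A] (f : A) :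
    Algebra.norm k f =
      ∏ᶠ φ : A →ₐ[k] k, φ f ^ Module.finrank k (Localization.AtPrime (Ideal.comap φ ⊥)) := by
  classical
  have : IsArtinianRing A := IsArtinianRing.of_finite k A
  have : Fintype (MaximalSpectrum A) := Fintype.ofFinite _
  have hfin : ∀ m : MaximalSpectrum A, Module.Finite k (Localization.AtPrime m.asIdeal) := fun m =>
    Module.Finite.of_surjective (IsScalarTower.toAlgHom k A (Localization.AtPrime m.asIdeal)).toLinearMap
      (IsArtinianRing.localization_surjective m.asIdeal.primeCompl _)
  let e := (MaximalSpectrum.toPiLocalizationEquiv A).restrictScalars k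
  have h1 : Algebra.norm k f = ∏ m : MaximalSpectrum A, Algebra.norm k (algebraMap A (Localization.AtPrime m.asIdeal) f) := by
    rw [← Algebra.norm_eq_of_algEquiv e f]
    rw [norm_pi]
    rfl
  rw [h1]
  symm
  rw [← finprod_eq_prod_of_fintype]
  refine finprod_eq_of_bijective ptMax ptMax_bijective fun φ => ?_
  symm
  apply norm_of_mem_maximalIdeal
  rw [IsScalarTower.algebraMap_apply k A (Localization.AtPrime (ptMax φ).asIdeal), ← map_sub]
  rw [← Localization.AtPrime.map_eq_maximalIdeal]
  apply Ideal.mem_map_of_mem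
  show _ ∈ Ideal.comap φ ⊥
  rw [Ideal.mem_comap]
  simp

end K774.Norm
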