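import Groth.Agent.HilbChow.K774.ExtPow
import Mathlib.LinearAlgebra.TensorProduct.Basic

/-!
# The norm of a tensor product of invertible modules
-/

set_option autoImplicit false
universe u v w

open TensorProduct

namespace K774.NormTensor

open K774.ExtPow K774.Triv

section Pair

variable {A : Type*} [CommRing A] {E₁ E₂ : Type*} [AddCommGroup E₁] [Module A E₁] [AddCommGroup E₂] [Module A E₂]

theorem pair {n : ℕ} (u : E₁ →ₗ[A] E₁) (v w : E₂ →ₗ[A] E₂) (c s : A) (hu : exteriorPower.map n u = c • LinearMap.id)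
    (hv : exteriorPower.map n v = c • LinearMap.id) (hvw : v ∘ₗ w = s • LinearMap.id) :
    TensorProduct.map (exteriorPower.map n u) (exteriorPower.map n w) = s ^ n • LinearMap.id := by
  have h1 : c • exteriorPower.map n w = s ^ n • LinearMap.id := by
    have : exteriorPower.map n (v ∘ₗ w) = c • exteriorPower.map n w := by
      rw [exteriorPower.map_comp, hv, LinearMap.smul_comp, LinearMap.id_comp]
    rw [← this, hvw, map_smul_id]
  rw [hu, TensorProduct.map_smul_left, ← TensorProduct.map_smul_right, h1, TensorProduct.map_smul_right, TensorProduct.map_id]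

theorem pair' {n : ℕ} (u : E₁ →ₗ[A] E₁) (v w : E₂ →ₗ[A] E₂) (c s : A) (hu : exteriorPower.map n u = c • LinearMap.id)
    (hv : exteriorPower.map n v = c • LinearMap.id) (hvw : v ∘ₗ w = s • LinearMap.id) :
    TensorProduct.map (exteriorPower.map n w) (exteriorPower.map n u) = s ^ n • LinearMap.id := by
  have h1 : c • exteriorPower.map n w = s ^ n • LinearMap.id := by
    have : exteriorPower.map n (v ∘ₗ w) = c • exteriorPower.map n w := by
      rw [exteriorPower.map_comp, hv, LinearMap.smul_comp, LinearMap.id_comp]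
    rw [← this, hvw, map_smul_id]
  rw [hu, TensorProduct.map_smul_right, ← TensorProduct.map_smul_left, h1, TensorProduct.map_smul_left, TensorProduct.map_id]

end Pair

section Sum

variable {A : Type*} [CommRing A] {P Q : Type*} [AddCommGroup P] [Module A P] [AddCommGroup Q] [Module A Q]

theorem sum_comp {r n : ℕ} (t s : Fin r → A) (ht : ∑ i, t i * s i ^ n = 1) (f : Fin r → (P →ₗ[A] Q)) (g : Fin r → (Q →ₗ[A] P))
    (h : ∀ i j, g j ∘ₗ f i = (s j * s i) ^ n • LinearMap.id) :
    (∑ j, t j • g j) ∘ₗ (∑ i, t i • f i) = LinearMap.id := by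
  have h1 : (∑ j, t j • g j) ∘ₗ (∑ i, t i • f i) = ∑ j, ∑ i, (t j * s j ^ n) • ((t i * s i ^ n) • (LinearMap.id : P →ₗ[A] P)) := by
    apply LinearMap.ext
    intro x
    simp only [LinearMap.comp_apply, LinearMap.sum_apply, map_sum, LinearMap.smul_apply, LinearMap.map_smul, LinearMap.id_apply]
    refine Finset.sum_congr rfl fun j _ => ?_
    refine Finset.sum_congr rfl fun i _ => ?_
    have h2 : g i (f j x) = (s i * s j) ^ n • x := LinearMap.congr_fun (h j i) x
    rw [h2, smul_smul, smul_smul, smul_smul]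
    congr 1
    ring
  rw [h1]
  simp only [← Finset.smul_sum, ← Finset.sum_smul, ht, one_smul]

end Sum

variable {A : Type u} {B : Type v} [CommRing A] [CommRing B] [Algebra A B]

/-- Multiplication by an element of `B`, as an `A`-linear map. -/
def mb (A : Type u) {B : Type v} [CommRing A] [CommRing B] [Algebra A B] (M : Type*) [AddCommGroup M] [Module B M] [Module A M]
    [IsScalarTower A B M] (b : B) : M →ₗ[A] M :=
  (LinearMap.lsmul B M b).restrictScalars A

@[simp]
theorem mb_apply {M : Type*} [AddCommGroup M] [Module B M] [Module A M] [IsScalarTower A B M] (b : B) (m : M) :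
    mb A M b m = b • m := rfl

section Inv

variable {M : Type*} [AddCommGroup M] [Module B M] [Module A M] [IsScalarTower A B M] (F : Fam A B M 1)

/-- The map `B → M` of a trivialization. -/
noncomputable def al (i : Fin F.r) : B →ₗ[B] M := F.e i ∘ₗ (LinearEquiv.funUnique (Fin 1) B B).symm.toLinearMap

/-- The map `M → B` of a trivialization. -/
noncomputable def ps (i : Fin F.r) : M →ₗ[B] B := (LinearEquiv.funUnique (Fin 1) B B).toLinearMap ∘ₗ F.ε i

omit [Module A M] [IsScalarTower A B M] in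
theorem al_ps (i : Fin F.r) (m : M) : al F i (ps F i m) = algebraMap A B (F.s i) • m := by
  simp only [al, ps, LinearMap.comp_apply, LinearEquiv.coe_coe, LinearEquiv.symm_apply_apply]
  exact F.h1 i m

omit [Module A M] [IsScalarTower A B M] in
theorem ps_al (i : Fin F.r) (b : B) : ps F i (al F i b) = algebraMap A B (F.s i) * b := by
  simp only [al, ps, LinearMap.comp_apply, LinearEquiv.coe_coe]
  rw [F.h2]
  simp [Algebra.smul_def]

omit [Module A M] [IsScalarTower A B M] in
theorem al_apply (i : Fin F.r) (b : B) : al F i b = b • al F i 1 := by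
  rw [← LinearMap.map_smul, smul_eq_mul, mul_one]

end Inv

variable {M₁ M₂ : Type*} [AddCommGroup M₁] [Module B M₁] [Module A M₁] [IsScalarTower A B M₁]
    [AddCommGroup M₂] [Module B M₂] [Module A M₂] [IsScalarTower A B M₂]

/-- The map `M₁ → M₁ ⊗ M₂`. -/
noncomputable def be (M₁ : Type*) [AddCommGroup M₁] [Module B M₁] (m : M₂) : M₁ →ₗ[B] M₁ ⊗[B] M₂ :=
  (TensorProduct.mk B M₁ M₂).flip m

/-- The map `M₁ ⊗ M₂ → M₁`. -/
noncomputable def ga (M₁ : Type*) [AddCommGroup M₁] [Module B M₁] (ψ : M₂ →ₗ[B] B) : M₁ ⊗[B] M₂ →ₗ[B] M₁ :=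
  (TensorProduct.rid B M₁).toLinearMap ∘ₗ LinearMap.lTensor M₁ ψ

omit [Module A M₁] [IsScalarTower A B M₁] [Module A M₂] [IsScalarTower A B M₂] in
theorem be_apply (m : M₂) (x : M₁) : be M₁ m x = x ⊗ₜ[B] m := rfl

omit [Module A M₁] [IsScalarTower A B M₁] [Module A M₂] [IsScalarTower A B M₂] in
theorem ga_tmul (ψ : M₂ →ₗ[B] B) (x : M₁) (y : M₂) : ga M₁ ψ (x ⊗ₜ[B] y) = ψ y • x := by
  simp [ga]

theorem main [Module.Finite A B] [Module.Projective A B]
    (n : ℕ) (hn : ∀ q : PrimeSpectrum A, Module.finrank (Localization.AtPrime q.asIdeal) (LocalizedModule q.asIdeal.primeCompl B) = n)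
    [Module.Finite B M₁] [Module.Projective B M₁] [Module.Finite B M₂] [Module.Projective B M₂]
    (h₁ : ∀ q : PrimeSpectrum B, Module.finrank (Localization.AtPrime q.asIdeal) (LocalizedModule q.asIdeal.primeCompl M₁) = 1)
    (h₂ : ∀ q : PrimeSpectrum B, Module.finrank (Localization.AtPrime q.asIdeal) (LocalizedModule q.asIdeal.primeCompl M₂) = 1) :
    Nonempty ((⋀[A]^n B) ⊗[A] (⋀[A]^n (M₁ ⊗[B] M₂)) ≃ₗ[A] (⋀[A]^n M₁) ⊗[A] (⋀[A]^n M₂)) := by
  obtain ⟨F₀⟩ := nonempty_fam (A := A) (B := A) (M := B) n hn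
  obtain ⟨F₁⟩ := nonempty_fam (A := A) (B := B) (M := M₁) 1 h₁
  obtain ⟨F₂⟩ := nonempty_fam (A := A) (B := B) (M := M₂) 1 h₂
  obtain ⟨t₁, ht₁⟩ := F₁.exists_sum n
  obtain ⟨t, ht⟩ := F₂.exists_sum n
  -- the norm
  have hN : ∀ b : B, ∃ c : A, exteriorPower.map n (mb A B b) = c • LinearMap.id ∧
      exteriorPower.map n (mb A M₁ b) = c • LinearMap.id ∧ exteriorPower.map n (mb A M₂ b) = c • LinearMap.id ∧
      exteriorPower.map n (mb A (M₁ ⊗[B] M₂) b) = c • LinearMap.id := by
    intro b
    obtain ⟨c, hc⟩ := exists_scalar F₀ (mb A B b)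
    have hc₁ : exteriorPower.map n (mb A M₁ b) = c • LinearMap.id := by
      refine transport t₁ F₁.s ht₁ (fun i => (al F₁ i).restrictScalars A) (fun i => (ps F₁ i).restrictScalars A) ?_
        (mb A B b) (mb A M₁ b) ?_ c hc
      · intro i
        apply LinearMap.ext
        intro m
        simp only [LinearMap.comp_apply, LinearMap.restrictScalars_apply, al_ps, LinearMap.smul_apply, LinearMap.id_apply,
          algebraMap_smul]
      · intro i
        apply LinearMap.ext
        intro m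
        exact LinearMap.map_smul (al F₁ i) b m
    have hc₂ : exteriorPower.map n (mb A M₂ b) = c • LinearMap.id := by
      refine transport t F₂.s ht (fun i => (al F₂ i).restrictScalars A) (fun i => (ps F₂ i).restrictScalars A) ?_
        (mb A B b) (mb A M₂ b) ?_ c hc
      · intro i
        apply LinearMap.ext
        intro m
        simp only [LinearMap.comp_apply, LinearMap.restrictScalars_apply, al_ps, LinearMap.smul_apply, LinearMap.id_apply,
          algebraMap_smul]
      · intro i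
        apply LinearMap.ext
        intro m
        exact LinearMap.map_smul (al F₂ i) b m
    refine ⟨c, hc, hc₁, hc₂, ?_⟩
    refine transport t F₂.s ht (fun i => (be M₁ (al F₂ i 1)).restrictScalars A)
      (fun i => (ga M₁ (ps F₂ i)).restrictScalars A) ?_ (mb A M₁ b) (mb A _ b) ?_ c hc₁
    · intro i
      apply LinearMap.ext
      intro m
      induction m using TensorProduct.induction_on with
      | zero => simp
      | add x y hx hy => rw [map_add, map_add, hx, hy]
      | tmul x y =>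
        simp only [LinearMap.comp_apply, LinearMap.restrictScalars_apply, ga_tmul, be_apply, LinearMap.smul_apply,
          LinearMap.id_apply]
        rw [TensorProduct.smul_tmul, ← al_apply, al_ps, ← TensorProduct.smul_tmul, algebraMap_smul]
        rfl
    · intro i
      apply LinearMap.ext
      intro m
      simp [be_apply, TensorProduct.smul_tmul']
  -- the two maps
  let f : Fin F₂.r → ((⋀[A]^n B) ⊗[A] (⋀[A]^n (M₁ ⊗[B] M₂)) →ₗ[A] (⋀[A]^n M₂) ⊗[A] (⋀[A]^n M₁)) := fun i =>
    TensorProduct.map (exteriorPower.map n ((al F₂ i).restrictScalars A)) (exteriorPower.map n ((ga M₁ (ps F₂ i)).restrictScalars A))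
  let g : Fin F₂.r → ((⋀[A]^n M₂) ⊗[A] (⋀[A]^n M₁) →ₗ[A] (⋀[A]^n B) ⊗[A] (⋀[A]^n (M₁ ⊗[B] M₂))) := fun i =>
    TensorProduct.map (exteriorPower.map n ((ps F₂ i).restrictScalars A)) (exteriorPower.map n ((be M₁ (al F₂ i 1)).restrictScalars A))
  have hgf : ∀ i j, g j ∘ₗ f i = (F₂.s j * F₂.s i) ^ n • LinearMap.id := by
    intro i j
    simp only [f, g]
    rw [← TensorProduct.map_comp, ← exteriorPower.map_comp, ← exteriorPower.map_comp]
    obtain ⟨c, hc, -, -, hcT⟩ := hN (ps F₂ j (al F₂ i 1))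
    refine pair _ (mb A _ (ps F₂ j (al F₂ i 1))) _ c _ ?_ hcT ?_
    · rw [← hc]
      congr 1
      apply LinearMap.ext
      intro b
      simp only [LinearMap.comp_apply, LinearMap.restrictScalars_apply, mb_apply, smul_eq_mul]
      rw [al_apply, LinearMap.map_smul, smul_eq_mul, mul_comm]
    · apply LinearMap.ext
      intro m
      induction m using TensorProduct.induction_on with
      | zero => simp
      | add x y hx hy => rw [map_add, map_add, hx, hy]
      | tmul x y =>
        simp only [LinearMap.comp_apply, LinearMap.restrictScalars_apply, ga_tmul, be_apply, LinearMap.smul_apply,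
          LinearMap.id_apply, mb_apply]
        have e1 : ps F₂ j (al F₂ i 1) • al F₂ j 1 = F₂.s j • al F₂ i 1 := by
          rw [← al_apply, al_ps, algebraMap_smul]
        have e2 : ps F₂ i y • al F₂ i 1 = F₂.s i • y := by
          rw [← al_apply, al_ps, algebraMap_smul]
        calc ps F₂ j (al F₂ i 1) • ((ps F₂ i y • x) ⊗ₜ[B] al F₂ j 1)
            = (ps F₂ i y • x) ⊗ₜ[B] (ps F₂ j (al F₂ i 1) • al F₂ j 1) := by rw [TensorProduct.tmul_smul]
          _ = (ps F₂ i y • x) ⊗ₜ[B] (F₂.s j • al F₂ i 1) := by rw [e1]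
          _ = (F₂.s j • x) ⊗ₜ[B] (ps F₂ i y • al F₂ i 1) := by
              rw [← algebraMap_smul B (F₂.s j) (al F₂ i 1), ← algebraMap_smul B (F₂.s j) x]
              rw [TensorProduct.smul_tmul, TensorProduct.smul_tmul, smul_comm]
          _ = (F₂.s j • x) ⊗ₜ[B] (F₂.s i • y) := by rw [e2]
          _ = (F₂.s j * F₂.s i) • (x ⊗ₜ[B] y) := by
              rw [← algebraMap_smul B (F₂.s i) y, ← TensorProduct.smul_tmul, algebraMap_smul, smul_smul, mul_comm]
              rfl
  have hfg : ∀ i j, f j ∘ₗ g i = (F₂.s j * F₂.s i) ^ n • LinearMap.id := by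
    intro i j
    simp only [f, g]
    rw [← TensorProduct.map_comp, ← exteriorPower.map_comp, ← exteriorPower.map_comp]
    obtain ⟨c, -, hc₁, hc₂, -⟩ := hN (ps F₂ j (al F₂ i 1))
    refine pair' _ (mb A _ (ps F₂ j (al F₂ i 1))) _ c _ ?_ hc₂ ?_
    · rw [← hc₁]
      refine congrArg (exteriorPower.map n) (LinearMap.ext fun b => ?_)
      simp only [LinearMap.comp_apply, LinearMap.restrictScalars_apply, mb_apply, be_apply, ga_tmul]
    · apply LinearMap.ext
      intro y
      simp only [LinearMap.comp_apply, LinearMap.restrictScalars_apply, LinearMap.smul_apply,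
          LinearMap.id_apply, mb_apply]
      have e1 : ps F₂ j (al F₂ i 1) • al F₂ j 1 = F₂.s j • al F₂ i 1 := by
        rw [← al_apply, al_ps, algebraMap_smul]
      have e2 : ps F₂ i y • al F₂ i 1 = F₂.s i • y := by
        rw [← al_apply, al_ps, algebraMap_smul]
      rw [al_apply F₂ j (ps F₂ i y), smul_comm, e1, smul_comm, e2, smul_smul]
  have H1 := sum_comp (P := (⋀[A]^n M₂) ⊗[A] (⋀[A]^n M₁)) (Q := (⋀[A]^n B) ⊗[A] (⋀[A]^n (M₁ ⊗[B] M₂))) t F₂.s ht g f hfg
  have H2 := sum_comp (Q := (⋀[A]^n M₂) ⊗[A] (⋀[A]^n M₁)) (P := (⋀[A]^n B) ⊗[A] (⋀[A]^n (M₁ ⊗[B] M₂))) t F₂.s ht f g hgf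
  have E1 : ((⋀[A]^n B) ⊗[A] (⋀[A]^n (M₁ ⊗[B] M₂))) ≃ₗ[A] ((⋀[A]^n M₂) ⊗[A] (⋀[A]^n M₁)) :=
    LinearEquiv.ofLinearMap (∑ i, t i • f i) (∑ j, t j • g j) H1 H2
  have E2 : ((⋀[A]^n M₂) ⊗[A] (⋀[A]^n M₁)) ≃ₗ[A] ((⋀[A]^n M₁) ⊗[A] (⋀[A]^n M₂)) := TensorProduct.comm A _ _
  exact ⟨E1.trans E2⟩

end K774.NormTensor
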