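import Mathlib.RingTheory.Norm.Transitivity
import Mathlib.RingTheory.Localization.Away.Basic
import Groth.Agent.HilbChow.K774.NormTensor

/-!
# Transitivity of determinants for algebras that are free up to scalars
-/

set_option autoImplicit false
universe u v w

open TensorProduct

namespace K774.NormDet

open K774.Triv K774.NormTensor

variable {A : Type u} {B : Type v} [CommRing A] [CommRing B] [Algebra A B]

/-- The matrix of multiplication by `b`, up to a scalar. -/
noncomputable def X {n : ℕ} (e : (Fin n → A) →ₗ[A] B) (ε : B →ₗ[A] (Fin n → A)) (b : B) : Matrix (Fin n) (Fin n) A :=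
  LinearMap.toMatrix' (ε ∘ₗ mb A B b ∘ₗ e)

theorem X_mul {n : ℕ} (s : A) (e : (Fin n → A) →ₗ[A] B) (ε : B →ₗ[A] (Fin n → A)) (h1 : ∀ b, e (ε b) = s • b) (b b' : B) :
    X e ε b * X e ε b' = s • X e ε (b * b') := by
  rw [X, X, X, ← LinearMap.toMatrix'_comp, ← map_smul]
  congr 1
  apply LinearMap.ext
  intro x
  simp only [LinearMap.comp_apply, mb_apply, smul_eq_mul, h1, LinearMap.smul_apply]
  rw [mul_smul_comm, map_smul, mul_assoc]

theorem X_one {n : ℕ} (s : A) (e : (Fin n → A) →ₗ[A] B) (ε : B →ₗ[A] (Fin n → A)) (h2 : ∀ x, ε (e x) = s • x) :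
    X e ε 1 = s • (1 : Matrix (Fin n) (Fin n) A) := by
  rw [X, ← LinearMap.toMatrix'_id, ← map_smul]
  congr 1
  apply LinearMap.ext
  intro x
  simp only [LinearMap.comp_apply, mb_apply, smul_eq_mul, one_mul, h2, LinearMap.smul_apply, LinearMap.id_apply]

theorem X_add {n : ℕ} (e : (Fin n → A) →ₗ[A] B) (ε : B →ₗ[A] (Fin n → A)) (b b' : B) :
    X e ε (b + b') = X e ε b + X e ε b' := by
  rw [X, X, X, ← map_add]
  congr 1
  apply LinearMap.ext
  intro x
  simp only [LinearMap.comp_apply, mb_apply, smul_eq_mul, LinearMap.add_apply, add_mul, map_add]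

/-- The ring homomorphism to matrices over the localization. -/
noncomputable def f {n : ℕ} (s : A) (e : (Fin n → A) →ₗ[A] B) (ε : B →ₗ[A] (Fin n → A)) (h1 : ∀ b, e (ε b) = s • b)
    (h2 : ∀ x, ε (e x) = s • x) : B →+* Matrix (Fin n) (Fin n) (Localization.Away s) where
  toFun b := IsLocalization.Away.invSelf (S := Localization.Away s) s • (X e ε b).map (algebraMap A (Localization.Away s))
  map_one' := by
    have h := IsLocalization.Away.mul_invSelf (S := Localization.Away s) s
    rw [X_one s e ε h2]
    ext i j
    simp only [Matrix.smul_apply, Matrix.map_apply, smul_eq_mul, map_mul]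
    rw [← mul_assoc, mul_comm (IsLocalization.Away.invSelf s), h, one_mul]
    by_cases hij : i = j
    · subst hij; simp
    · simp [hij]
  map_mul' b b' := by
    have h := IsLocalization.Away.mul_invSelf (S := Localization.Away s) s
    rw [Matrix.smul_mul, Matrix.mul_smul, ← Matrix.map_mul, X_mul s e ε h1]
    ext i j
    simp only [Matrix.smul_apply, Matrix.map_apply, smul_eq_mul, map_mul]
    linear_combination (-(IsLocalization.Away.invSelf (S := Localization.Away s) s *
      algebraMap A (Localization.Away s) (X e ε (b * b') i j))) * h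
  map_zero' := by
    have : X e ε 0 = 0 := by
      have := X_add e ε 0 0
      simpa using this
    rw [this]
    simp
  map_add' b b' := by
    rw [X_add, Matrix.map_add _ (map_add _), smul_add]

theorem f_apply {n : ℕ} (s : A) (e : (Fin n → A) →ₗ[A] B) (ε : B →ₗ[A] (Fin n → A)) (h1 : ∀ b, e (ε b) = s • b)
    (h2 : ∀ x, ε (e x) = s • x) (b : B) : f s e ε h1 h2 b =
      IsLocalization.Away.invSelf (S := Localization.Away s) s • (X e ε b).map (algebraMap A (Localization.Away s)) := rfl

/-- The block matrix. -/
noncomputable def Y {n k : ℕ} (e : (Fin n → A) →ₗ[A] B) (ε : B →ₗ[A] (Fin n → A)) (G : Matrix (Fin k) (Fin k) B) :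
    Matrix (Fin k × Fin n) (Fin k × Fin n) A :=
  Matrix.comp _ _ _ _ _ (G.map (X e ε))

theorem exists_pow {n k : ℕ} (s : A) (e : (Fin n → A) →ₗ[A] B) (ε : B →ₗ[A] (Fin n → A)) (h1 : ∀ b, e (ε b) = s • b)
    (h2 : ∀ x, ε (e x) = s • x) (G : Matrix (Fin k) (Fin k) B) :
    ∃ m : ℕ, s ^ (m + n * k) * (X e ε G.det).det = s ^ (m + n) * (Y e ε G).det := by
  have h := IsLocalization.Away.mul_invSelf (S := Localization.Away s) s
  set u := IsLocalization.Away.invSelf (S := Localization.Away s) s with hu
  have key := Matrix.det_det (M := G) (f := f s e ε h1 h2)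
  have hY : Matrix.comp _ _ _ _ _ (G.map (f s e ε h1 h2)) = u • (Y e ε G).map (algebraMap A (Localization.Away s)) := by
    ext ⟨i, a⟩ ⟨j, b⟩
    rfl
  rw [hY, f_apply, Matrix.det_smul, Matrix.det_smul, ← RingHom.mapMatrix_apply, ← RingHom.mapMatrix_apply, ← RingHom.map_det,
    ← RingHom.map_det, Fintype.card_fin, Fintype.card_prod, Fintype.card_fin, Fintype.card_fin] at key
  have key2 : algebraMap A (Localization.Away s) (s ^ (n * k) * (X e ε G.det).det) =
      algebraMap A (Localization.Away s) (s ^ n * (Y e ε G).det) := by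
    rw [map_mul, map_mul, map_pow, map_pow]
    have e1 : algebraMap A (Localization.Away s) s ^ n * u ^ n = 1 := by rw [← mul_pow, h, one_pow]
    have e2 : algebraMap A (Localization.Away s) s ^ (n * k) * u ^ (n * k) = 1 := by rw [← mul_pow, h, one_pow]
    have key3 : u ^ n * algebraMap A (Localization.Away s) (X e ε G.det).det =
        u ^ (n * k) * algebraMap A (Localization.Away s) (Y e ε G).det := by
      rw [mul_comm n k]; exact key
    calc algebraMap A (Localization.Away s) s ^ (n * k) * algebraMap A (Localization.Away s) (X e ε G.det).det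
        = algebraMap A (Localization.Away s) s ^ (n * k) * (algebraMap A (Localization.Away s) s ^ n) *
          (u ^ n * algebraMap A (Localization.Away s) (X e ε G.det).det) := by
          linear_combination (-(algebraMap A (Localization.Away s) s ^ (n * k) *
            algebraMap A (Localization.Away s) (X e ε G.det).det)) * e1
      _ = algebraMap A (Localization.Away s) s ^ (n * k) * (algebraMap A (Localization.Away s) s ^ n) *
          (u ^ (n * k) * algebraMap A (Localization.Away s) (Y e ε G).det) := by rw [key3]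
      _ = _ := by
          linear_combination (algebraMap A (Localization.Away s) s ^ n *
            algebraMap A (Localization.Away s) (Y e ε G).det) * e2
  obtain ⟨⟨_, m, rfl⟩, hm⟩ := (IsLocalization.eq_iff_exists (Submonoid.powers s) (Localization.Away s)).1 key2
  refine ⟨m, ?_⟩
  simp only at hm
  rw [pow_add, pow_add, mul_assoc, mul_assoc]
  exact hm

/-- The determinant of the block matrix is that of the endomorphism. -/
theorem det_Y {n k : ℕ} (e : (Fin n → A) →ₗ[A] B) (ε : B →ₗ[A] (Fin n → A)) (g : (Fin k → B) →ₗ[B] (Fin k → B)) :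
    (Y e ε (LinearMap.toMatrix' g)).det =
      LinearMap.det (ε.compLeft (Fin k) ∘ₗ g.restrictScalars A ∘ₗ e.compLeft (Fin k)) := by
  let c : (Fin k × Fin n → A) ≃ₗ[A] (Fin k → Fin n → A) := LinearEquiv.curry A A (Fin k) (Fin n)
  rw [← LinearMap.det_conj _ c.symm, ← LinearMap.det_toMatrix']
  congr 1
  ext ⟨i, a⟩ ⟨j, b⟩
  rw [LinearMap.toMatrix'_apply]
  have e1 : c (Pi.single (j, b) 1) = Pi.single j (Pi.single b 1) := by
    ext i' a'
    change (Pi.single (j, b) 1 : Fin k × Fin n → A) (i', a') = _
    by_cases h : i' = j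
    · subst h; simp [Pi.single_apply]
    · simp [h]
  have e2 : (e.compLeft (Fin k)) (Pi.single j (Pi.single b 1)) = Pi.single j (e (Pi.single b 1)) := by
    ext i'
    simp only [LinearMap.compLeft_apply, Function.comp_apply]
    by_cases h : i' = j
    · subst h; simp
    · simp [h]
  have e3 : g (Pi.single j (e (Pi.single b 1))) i = LinearMap.toMatrix' g i j * e (Pi.single b 1) := by
    rw [LinearMap.toMatrix'_apply]
    have : (Pi.single j (e (Pi.single b 1)) : Fin k → B) = (e (Pi.single b 1)) • (Pi.single j 1 : Fin k → B) := by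
      ext i'
      by_cases h : i' = j
      · subst h; simp
      · simp [h]
    rw [this, map_smul, Pi.smul_apply, smul_eq_mul, mul_comm]
  have e4 : ∀ y : Fin k → Fin n → A, c.symm y (i, a) = y i a := fun y => rfl
  simp only [LinearMap.comp_apply, LinearEquiv.coe_coe, LinearEquiv.symm_symm]
  rw [e1, e2, e4]
  simp only [LinearMap.compLeft_apply, Function.comp_apply, LinearMap.restrictScalars_apply]
  rw [e3]
  simp only [Y, Matrix.comp_apply, Matrix.map_apply, X]
  rw [LinearMap.toMatrix'_apply]
  rfl

end K774.NormDet
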