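import Groth.Agent.HilbChow.K774.NormDet
import Groth.Agent.HilbChow.K774.ExtSum

/-!
# The norm of the determinant
-/

set_option autoImplicit false
universe u v w

open TensorProduct

namespace K774.NormExt

open K774.ExtPow K774.Triv K774.NormTensor

section

variable {A : Type u} [CommRing A]

theorem pow_smul_map {m : ℕ} {P E : Type*} [AddCommGroup P] [Module A P] [AddCommGroup E] [Module A E]
    (b : Module.Basis (Fin m) A P) (s : A) (e : P →ₗ[A] E) (ε : E →ₗ[A] P) (hs : e ∘ₗ ε = s • LinearMap.id) (g : E →ₗ[A] E) :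
    s ^ (2 * m) • exteriorPower.map m g = (LinearMap.det (ε ∘ₗ g ∘ₗ e) * s ^ m) • LinearMap.id :=
  calc s ^ (2 * m) • exteriorPower.map m g
      = exteriorPower.map m ((e ∘ₗ ε) ∘ₗ g ∘ₗ (e ∘ₗ ε)) := by
        rw [hs, LinearMap.comp_smul, LinearMap.comp_smul, LinearMap.smul_comp, LinearMap.comp_id, LinearMap.id_comp, ExtPow.map_smul,
          ExtPow.map_smul, smul_smul, ← pow_add, two_mul]
    _ = exteriorPower.map m e ∘ₗ exteriorPower.map m (ε ∘ₗ g ∘ₗ e) ∘ₗ exteriorPower.map m ε := by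
        rw [← exteriorPower.map_comp, ← exteriorPower.map_comp]; rfl
    _ = LinearMap.det (ε ∘ₗ g ∘ₗ e) • (exteriorPower.map m e ∘ₗ exteriorPower.map m ε) := by
        rw [map_eq_det b, LinearMap.smul_comp, LinearMap.comp_smul, LinearMap.id_comp]
    _ = (LinearMap.det (ε ∘ₗ g ∘ₗ e) * s ^ m) • LinearMap.id := by
        rw [← exteriorPower.map_comp, hs, map_smul_id, smul_smul]

/-- The standard identification. -/
noncomputable def rho (A : Type u) [CommRing A] (n k : ℕ) : (Fin k → Fin n → A) ≃ₗ[A] (Fin (n * k) → A) :=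
  (LinearEquiv.curry A A (Fin k) (Fin n)).symm ≪≫ₗ
    LinearEquiv.funCongrLeft A A ((finCongr (mul_comm n k)).trans finProdFinEquiv.symm)

/-- The standard basis. -/
noncomputable def bas (A : Type u) [CommRing A] (n k : ℕ) : Module.Basis (Fin (n * k)) A (Fin k → Fin n → A) :=
  Module.Basis.ofEquivFun (rho A n k)

end

variable {A : Type u} {B : Type v} [CommRing A] [CommRing B] [Algebra A B]

/-- The family of trivializations of a power. -/
noncomputable def famPow {n : ℕ} (F : Fam A A B n) (k : ℕ) : Fam A A (Fin k → B) (n * k) where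
  r := F.r
  s := F.s
  e i := (F.e i).compLeft (Fin k) ∘ₗ (rho A n k).symm.toLinearMap
  ε i := (rho A n k).toLinearMap ∘ₗ (F.ε i).compLeft (Fin k)
  h1 i m := by
    simp only [LinearMap.comp_apply, LinearEquiv.coe_coe, LinearEquiv.symm_apply_apply]
    ext j
    simp only [LinearMap.compLeft_apply, Function.comp_apply, F.h1]
    rfl
  h2 i x := by
    simp only [LinearMap.comp_apply, LinearEquiv.coe_coe]
    have : (F.ε i).compLeft (Fin k) ((F.e i).compLeft (Fin k) ((rho A n k).symm x)) =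
        algebraMap A A (F.s i) • ((rho A n k).symm x) := by
      ext j
      simp only [LinearMap.compLeft_apply, Function.comp_apply, F.h2]
      rfl
    rw [this, _root_.map_smul, LinearEquiv.apply_symm_apply]
  span := F.span

/-- The scalar attached to an endomorphism of `B^k`. -/
theorem exists_c {n k : ℕ} (F : Fam A A B n) (g : (Fin k → B) →ₗ[B] (Fin k → B)) :
    ∃ c : A, exteriorPower.map n (mb A B (LinearMap.det g)) = c • LinearMap.id ∧
      exteriorPower.map (n * k) (g.restrictScalars A) = c • LinearMap.id := by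
  let b : B := LinearMap.det g
  let D : Fin F.r → A := fun i => LinearMap.det (F.ε i ∘ₗ mb A B b ∘ₗ F.e i)
  let D' : Fin F.r → A := fun i =>
    LinearMap.det ((F.ε i).compLeft (Fin k) ∘ₗ g.restrictScalars A ∘ₗ (F.e i).compLeft (Fin k))
  have hh1 : ∀ i (b : B), F.e i (F.ε i b) = F.s i • b := fun i b => F.h1 i b
  have hh2 : ∀ i (x : Fin n → A), F.ε i (F.e i x) = F.s i • x := fun i b => F.h2 i b
  have hD : ∀ i, ∃ m : ℕ, F.s i ^ (m + n * k) * D i = F.s i ^ (m + n) * D' i := by
    intro i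
    obtain ⟨m, hm⟩ := NormDet.exists_pow (F.s i) (F.e i) (F.ε i) (hh1 i) (hh2 i) (LinearMap.toMatrix' g)
    refine ⟨m, ?_⟩
    rw [NormDet.det_Y, LinearMap.det_toMatrix', NormDet.X, LinearMap.det_toMatrix'] at hm
    exact hm
  choose m hm using hD
  let N : ℕ := (Finset.univ.sup m) + n + n * k + 2 * n + 2 * (n * k)
  have hN : ∀ i, m i + n + n * k + 2 * n + 2 * (n * k) ≤ N := by
    intro i
    have := Finset.le_sup (f := m) (Finset.mem_univ i)
    omega
  obtain ⟨t, ht⟩ := F.exists_sum N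
  have hs : ∀ i, F.e i ∘ₗ F.ε i = F.s i • LinearMap.id := fun i => by
    apply LinearMap.ext; intro y; exact F.h1 i y
  have hs' : ∀ i, (F.e i).compLeft (Fin k) ∘ₗ (F.ε i).compLeft (Fin k) = F.s i • LinearMap.id := fun i => by
    apply LinearMap.ext
    intro y
    ext j
    simp only [LinearMap.comp_apply, LinearMap.compLeft_apply, Function.comp_apply, hh1]
    rfl
  have hP1 := fun i => pow_smul_map (Pi.basisFun A (Fin n)) (F.s i) (F.e i) (F.ε i) (hs i) (mb A B b)
  have hP2 := fun i => pow_smul_map (bas A n k) (F.s i) ((F.e i).compLeft (Fin k)) ((F.ε i).compLeft (Fin k)) (hs' i)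
    (g.restrictScalars A)
  refine ⟨∑ i, t i * (D i * F.s i ^ (N - n)), ?_, ?_⟩
  · calc exteriorPower.map n (mb A B b) = (∑ i, t i * F.s i ^ N) • exteriorPower.map n (mb A B b) := by rw [ht, one_smul]
      _ = ∑ i, (t i * F.s i ^ (N - 2 * n)) • (F.s i ^ (2 * n) • exteriorPower.map n (mb A B b)) := by
          rw [Finset.sum_smul]
          refine Finset.sum_congr rfl fun i _ => ?_
          rw [smul_smul, mul_assoc, ← pow_add]
          congr 3
          have := hN i
          omega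
      _ = ∑ i, (t i * (D i * F.s i ^ (N - n))) • LinearMap.id := by
          refine Finset.sum_congr rfl fun i _ => ?_
          rw [hP1 i, smul_smul]
          congr 1
          have h3 : N - n = (N - 2 * n) + n := by
            have := hN i
            omega
          rw [h3, pow_add]
          ring
      _ = _ := by rw [Finset.sum_smul]
  · calc exteriorPower.map (n * k) (g.restrictScalars A)
        = (∑ i, t i * F.s i ^ N) • exteriorPower.map (n * k) (g.restrictScalars A) := by rw [ht, one_smul]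
      _ = ∑ i, (t i * F.s i ^ (N - 2 * (n * k))) • (F.s i ^ (2 * (n * k)) • exteriorPower.map (n * k) (g.restrictScalars A)) := by
          rw [Finset.sum_smul]
          refine Finset.sum_congr rfl fun i _ => ?_
          rw [smul_smul, mul_assoc, ← pow_add]
          congr 3
          have := hN i
          omega
      _ = ∑ i, (t i * (D i * F.s i ^ (N - n))) • LinearMap.id := by
          refine Finset.sum_congr rfl fun i _ => ?_
          rw [hP2 i, smul_smul]
          congr 1
          obtain ⟨d, hd⟩ : ∃ d, N = m i + n + n * k + 2 * n + 2 * (n * k) + d := ⟨_, (Nat.add_sub_cancel' (hN i)).symm⟩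
          have h3 : N - n = (m i + n * k) + (2 * n + 2 * (n * k) + d) := by omega
          have h4 : N - 2 * (n * k) = m i + n * k + 3 * n + d := by omega
          rw [h3, h4, pow_add _ (m i + n * k)]
          have h5 : D i * (F.s i ^ (m i + n * k) * F.s i ^ (2 * n + 2 * (n * k) + d)) =
            (F.s i ^ (m i + n) * D' i) * F.s i ^ (2 * n + 2 * (n * k) + d) := by rw [← hm i]; ring
          rw [h5]
          change t i * F.s i ^ (m i + n * k + 3 * n + d) * (D' i * F.s i ^ (n * k)) = _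
          ring
      _ = _ := by rw [Finset.sum_smul]

/-- The functor `⋀ⁿ_A ⋀^k_B` on `B`-linear maps. -/
noncomputable def W (A : Type u) [CommRing A] [Algebra A B] (n k : ℕ) {M N : Type*} [AddCommGroup M] [Module B M] [Module A M] [IsScalarTower A B M]
    [AddCommGroup N] [Module B N] [Module A N] [IsScalarTower A B N] (u : M →ₗ[B] N) :
    (⋀[A]^n (⋀[B]^k M)) →ₗ[A] (⋀[A]^n (⋀[B]^k N)) :=
  exteriorPower.map n ((exteriorPower.map k u).restrictScalars A)

variable {M N L : Type*} [AddCommGroup M] [Module B M] [Module A M] [IsScalarTower A B M]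
    [AddCommGroup N] [Module B N] [Module A N] [IsScalarTower A B N] [AddCommGroup L] [Module B L] [Module A L] [IsScalarTower A B L]

theorem W_comp (n k : ℕ) (u : M →ₗ[B] N) (v : N →ₗ[B] L) : W A n k (v ∘ₗ u) = W A n k v ∘ₗ W A n k u := by
  rw [W, W, W, ← exteriorPower.map_comp, exteriorPower.map_comp]
  rfl

theorem W_smul (n k : ℕ) (a : A) : W A n k (algebraMap A B a • (LinearMap.id : M →ₗ[B] M)) = a ^ (n * k) • LinearMap.id := by
  rw [W, map_smul_id]
  have : ((algebraMap A B a ^ k • (LinearMap.id : (⋀[B]^k M) →ₗ[B] (⋀[B]^k M))).restrictScalars A) = (a ^ k) • LinearMap.id := by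
    apply LinearMap.ext
    intro x
    simp only [LinearMap.restrictScalars_apply, LinearMap.smul_apply, LinearMap.id_apply]
    rw [← map_pow, algebraMap_smul]
  rw [this, map_smul_id, ← pow_mul, mul_comm k n]

theorem W_scalar {n k : ℕ} (u : (Fin k → B) →ₗ[B] (Fin k → B)) (c : A)
    (hc : exteriorPower.map n (mb A B (LinearMap.det u)) = c • LinearMap.id) : W A n k u = c • LinearMap.id := by
  rw [W, map_eq_det (Pi.basisFun B (Fin k))]
  let ω : ⋀[B]^k (Fin k → B) := exteriorPower.ιMulti B k (Pi.basisFun B (Fin k))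
  let f : B →ₗ[B] (⋀[B]^k (Fin k → B)) := LinearMap.toSpanSingleton B _ ω
  let g : (⋀[B]^k (Fin k → B)) →ₗ[B] B := exteriorPower.alternatingMapLinearEquiv (Pi.basisFun B (Fin k)).det
  have hfg : f ∘ₗ g = LinearMap.id := by
    apply exteriorPower.linearMap_ext
    ext v
    simp only [LinearMap.compAlternatingMap_apply, LinearMap.comp_apply, LinearMap.id_apply]
    rw [show g (exteriorPower.ιMulti B k v) = (Pi.basisFun B (Fin k)).det v from
      exteriorPower.alternatingMapLinearEquiv_apply_ιMulti _ _]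
    rw [LinearMap.toSpanSingleton_apply, ← ιMulti_eq_det]
  refine transport (r := 1) (fun _ => 1) (fun _ => 1) (by simp) (fun _ => f.restrictScalars A) (fun _ => g.restrictScalars A) ?_
    (mb A B (LinearMap.det u)) _ ?_ c hc
  · intro i
    apply LinearMap.ext
    intro x
    rw [one_smul]
    exact LinearMap.congr_fun hfg x
  · intro i
    apply LinearMap.ext
    intro x
    simp only [LinearMap.comp_apply, LinearMap.restrictScalars_apply, mb_apply, LinearMap.smul_apply, LinearMap.id_apply]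
    rw [_root_.map_smul]

theorem sum_comp' {A : Type*} [CommRing A] {P Q : Type*} [AddCommMonoid P] [Module A P] [AddCommMonoid Q] [Module A Q]
    {r n : ℕ} (t s : Fin r → A) (ht : ∑ i, t i * s i ^ n = 1) (f : Fin r → (P →ₗ[A] Q)) (g : Fin r → (Q →ₗ[A] P))
    (h : ∀ i j, g j ∘ₗ f i = (s j * s i) ^ n • LinearMap.id) :
    (∑ j, t j • g j) ∘ₗ (∑ i, t i • f i) = LinearMap.id := by
  have h1 : (∑ j, t j • g j) ∘ₗ (∑ i, t i • f i) = ∑ j, ∑ i, (t j * s j ^ n) • ((t i * s i ^ n) • (LinearMap.id : P →ₗ[A] P)) := by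
    apply LinearMap.ext
    intro x
    simp only [LinearMap.comp_apply, LinearMap.sum_apply, map_sum, LinearMap.smul_apply, LinearMap.map_smul, LinearMap.id_apply]
    refine Finset.sum_congr rfl fun j _ => ?_
    refine Finset.sum_congr rfl fun i _ => ?_
    have h2 : g i (f j x) = (s i * s j) ^ n • x := LinearMap.congr_fun (h j i) x
    rw [h2, smul_smul, smul_smul, smul_smul]
    congr 1
    ring
  rw [h1]
  simp only [← Finset.smul_sum, ← Finset.sum_smul, ht, one_smul]

theorem glue {A : Type*} [CommRing A] {X X₀ Z Z₀ T : Type*} [AddCommMonoid X] [Module A X] [AddCommMonoid X₀] [Module A X₀] [AddCommMonoid Z] [Module A Z]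
    [AddCommMonoid Z₀] [Module A Z₀] [AddCommMonoid T] [Module A T] (ι : X₀ ≃ₗ[A] T ⊗[A] Z₀) {r N : ℕ} (t s : Fin r → A)
    (ht : ∑ i, t i * s i ^ N = 1) (p : Fin r → (X →ₗ[A] X₀)) (q : Fin r → (X₀ →ₗ[A] X)) (a : Fin r → (Z₀ →ₗ[A] Z))
    (b : Fin r → (Z →ₗ[A] Z₀)) (hqp : ∀ i, q i ∘ₗ p i = s i ^ N • LinearMap.id) (hab : ∀ i, a i ∘ₗ b i = s i ^ N • LinearMap.id)
    (hc : ∀ i j, ∃ c : A, p i ∘ₗ q j = c • LinearMap.id ∧ b i ∘ₗ a j = c • LinearMap.id) : Nonempty (X ≃ₗ[A] T ⊗[A] Z) := by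
  let f : Fin r → (X →ₗ[A] T ⊗[A] Z) := fun i => LinearMap.lTensor T (a i) ∘ₗ ι.toLinearMap ∘ₗ p i
  let g : Fin r → (T ⊗[A] Z →ₗ[A] X) := fun i => q i ∘ₗ ι.symm.toLinearMap ∘ₗ LinearMap.lTensor T (b i)
  have hgf : ∀ i i', g i' ∘ₗ f i = (s i' * s i) ^ N • LinearMap.id := by
    intro i i'
    obtain ⟨c, hc1, hc2⟩ := hc i' i
    have h1 : LinearMap.lTensor T (b i') ∘ₗ LinearMap.lTensor T (a i) = c • LinearMap.id := by
      rw [← LinearMap.lTensor_comp, hc2, LinearMap.lTensor_smul, LinearMap.lTensor_id]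
    calc g i' ∘ₗ f i = q i' ∘ₗ ι.symm.toLinearMap ∘ₗ
          (LinearMap.lTensor T (b i') ∘ₗ LinearMap.lTensor T (a i)) ∘ₗ ι.toLinearMap ∘ₗ p i := rfl
      _ = q i' ∘ₗ (c • LinearMap.id) ∘ₗ p i := by
          rw [h1]
          apply LinearMap.ext
          intro x
          simp only [LinearMap.comp_apply, LinearMap.smul_apply, LinearMap.id_apply, _root_.map_smul, LinearEquiv.coe_coe,
            LinearEquiv.symm_apply_apply]
      _ = (q i' ∘ₗ p i') ∘ₗ (q i ∘ₗ p i) := by rw [← hc1]; rfl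
      _ = _ := by
          rw [hqp, hqp, LinearMap.smul_comp, LinearMap.id_comp, smul_smul, mul_pow]
  have hfg : ∀ i i', f i' ∘ₗ g i = (s i' * s i) ^ N • LinearMap.id := by
    intro i i'
    obtain ⟨c, hc1, hc2⟩ := hc i' i
    have h2 : LinearMap.lTensor T (b i') ∘ₗ LinearMap.lTensor T (a i) = c • LinearMap.id := by
      rw [← LinearMap.lTensor_comp, hc2, LinearMap.lTensor_smul, LinearMap.lTensor_id]
    calc f i' ∘ₗ g i = LinearMap.lTensor T (a i') ∘ₗ ι.toLinearMap ∘ₗ
          (p i' ∘ₗ q i) ∘ₗ ι.symm.toLinearMap ∘ₗ LinearMap.lTensor T (b i) := rfl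
      _ = LinearMap.lTensor T (a i') ∘ₗ (c • LinearMap.id) ∘ₗ LinearMap.lTensor T (b i) := by
          rw [hc1]
          apply LinearMap.ext
          intro x
          simp only [LinearMap.comp_apply, LinearMap.smul_apply, LinearMap.id_apply, _root_.map_smul, LinearEquiv.coe_coe,
            LinearEquiv.apply_symm_apply]
      _ = (LinearMap.lTensor T (a i') ∘ₗ LinearMap.lTensor T (b i')) ∘ₗ (LinearMap.lTensor T (a i) ∘ₗ LinearMap.lTensor T (b i)) := by
          rw [← h2]; rfl
      _ = _ := by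
          rw [← LinearMap.lTensor_comp, ← LinearMap.lTensor_comp, hab, hab, LinearMap.lTensor_smul, LinearMap.lTensor_smul,
            LinearMap.lTensor_id, LinearMap.smul_comp, LinearMap.id_comp, smul_smul, mul_pow]
  have H1 := sum_comp' (P := T ⊗[A] Z) (Q := X) t s ht g f hfg
  have H2 := sum_comp' (Q := T ⊗[A] Z) (P := X) t s ht f g hgf
  have E1 : X ≃ₗ[A] T ⊗[A] Z :=
    LinearEquiv.ofLinearMap (∑ i, t i • f i) (∑ j, t j • g j) H1 H2
  exact ⟨E1⟩

/-- The isomorphism for the free module. -/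
theorem nonempty_free {n : ℕ} (F : Fam A A B n) (j : ℕ) : Nonempty ((⋀[A]^(n * (j + 1)) (Fin (j + 1) → B)) ≃ₗ[A]
    (TensorPower A j (⋀[A]^n B)) ⊗[A] (⋀[A]^n (⋀[B]^(j + 1) (Fin (j + 1) → B)))) := by
  obtain ⟨ι₁⟩ := ExtSum.nonempty_equiv_pi (A := A) (E := B) (n := n) (fun j m h => subsingleton_of_fam (famPow F j) h)
    (fun m h => subsingleton_of_fam F h) j
  have e0 : (⋀[B]^(j + 1) (Fin (j + 1) → B)) ≃ₗ[B] B := by
    let ω : ⋀[B]^(j + 1) (Fin (j + 1) → B) := exteriorPower.ιMulti B (j + 1) (Pi.basisFun B (Fin (j + 1)))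
    refine LinearEquiv.ofLinearMap (exteriorPower.alternatingMapLinearEquiv (Pi.basisFun B (Fin (j + 1))).det)
      (LinearMap.toSpanSingleton B _ ω) ?_ ?_
    · ext
      simp only [LinearMap.comp_apply, LinearMap.toSpanSingleton_apply, one_smul, LinearMap.id_apply, ω]
      rw [exteriorPower.alternatingMapLinearEquiv_apply_ιMulti, Module.Basis.det_self]
    · apply exteriorPower.linearMap_ext
      ext v
      simp only [LinearMap.compAlternatingMap_apply, LinearMap.comp_apply, LinearMap.id_apply]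
      rw [exteriorPower.alternatingMapLinearEquiv_apply_ιMulti, LinearMap.toSpanSingleton_apply, ← ιMulti_eq_det]
  have ι₂ : (⋀[A]^n B) ≃ₗ[A] (⋀[A]^n (⋀[B]^(j + 1) (Fin (j + 1) → B))) := ExtSum.mapEquiv n (e0.symm.restrictScalars A)
  have ι₃ : (TensorPower A j (⋀[A]^n B)) ⊗[A] (⋀[A]^n B) ≃ₗ[A]
      (TensorPower A j (⋀[A]^n B)) ⊗[A] (⋀[A]^n (⋀[B]^(j + 1) (Fin (j + 1) → B))) :=
    TensorProduct.congr (LinearEquiv.refl A _) ι₂
  exact ⟨ι₁.trans ι₃⟩

theorem k1 {k : ℕ} (G : Fam A B M k) (N : ℕ) (i : Fin G.r) : exteriorPower.map N ((G.e i).restrictScalars A) ∘ₗ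
      exteriorPower.map N ((G.ε i).restrictScalars A) = G.s i ^ N • LinearMap.id := by
  rw [← exteriorPower.map_comp, ← map_smul_id]
  congr 1
  apply LinearMap.ext
  intro x
  simp only [LinearMap.comp_apply, LinearMap.restrictScalars_apply, LinearMap.smul_apply, LinearMap.id_apply]
  rw [G.h1, algebraMap_smul]

theorem k2 {k n : ℕ} (G : Fam A B M k) (i : Fin G.r) :
    W A n k (G.e i) ∘ₗ W A n k (G.ε i) = G.s i ^ (n * k) • LinearMap.id := by
  rw [← W_comp, ← W_smul]
  congr 1
  apply LinearMap.ext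
  intro x
  exact G.h1 i x

theorem k3 {k n : ℕ} (F : Fam A A B n) (G : Fam A B M k) (i i' : Fin G.r) :
    ∃ c : A, exteriorPower.map (n * k) ((G.ε i).restrictScalars A) ∘ₗ
      exteriorPower.map (n * k) ((G.e i').restrictScalars A) = c • LinearMap.id ∧
      W A n k (G.ε i) ∘ₗ W A n k (G.e i') = c • LinearMap.id := by
  obtain ⟨c, hc1, hc2⟩ := exists_c F (G.ε i ∘ₗ G.e i')
  refine ⟨c, ?_, ?_⟩
  · rw [← exteriorPower.map_comp]; exact hc2
  · rw [← W_comp]; exact W_scalar _ c hc1

theorem main [Module.Finite A B] [Module.Projective A B]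
    (n : ℕ) (hn : ∀ q : PrimeSpectrum A, Module.finrank (Localization.AtPrime q.asIdeal) (LocalizedModule q.asIdeal.primeCompl B) = n)
    [Module.Finite B M] [Module.Projective B M] (k : ℕ) (hk : 1 ≤ k)
    (hM : ∀ q : PrimeSpectrum B, Module.finrank (Localization.AtPrime q.asIdeal) (LocalizedModule q.asIdeal.primeCompl M) = k) :
    Nonempty ((⋀[A]^(n * k) M) ≃ₗ[A]
      (TensorPower A (k - 1) (⋀[A]^n B)) ⊗[A] (⋀[A]^n (⋀[B]^k M))) := by
  obtain ⟨F⟩ := nonempty_fam (A := A) (B := A) (M := B) n hn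
  obtain ⟨G⟩ := nonempty_fam (A := A) (B := B) (M := M) k hM
  obtain ⟨j, rfl⟩ : ∃ j, k = j + 1 := ⟨k - 1, by omega⟩
  obtain ⟨t, ht⟩ := G.exists_sum (n * (j + 1))
  obtain ⟨ι⟩ := nonempty_free F j
  exact glue ι t G.s ht _ _ _ _ (k1 G _) (k2 G) (k3 F G)

end K774.NormExt
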